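import Cfsg.Prelude.Def_LieExceptional
import Cfsg.Agent.Lib.Solvable.FixedPointFree
import Cfsg.Agent.Lib.Solvable.Fitting
import Mathlib.GroupTheory.Nilpotent
import Mathlib.GroupTheory.SpecificGroups.ZGroup

/-!
# Elementary properties of groups with nilpotent centralisers
-/

set_option autoImplicit false
set_option linter.style.haveILetI false
set_option linter.unusedSectionVars false

namespace Cfsg.Agent.CN

universe u

variable {G : Type u} [Group G] [Finite G]

/-- Elements of coprime order in a nilpotent subgroup commute. -/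
theorem commute_of_coprime {K : Subgroup G} (hK : Group.IsNilpotent K) {x y : G} (hx : x ∈ K)
    (hy : y ∈ K) (h : Nat.Coprime (orderOf x) (orderOf y)) : Commute x y := by
  haveI : Fintype K := Fintype.ofFinite _
  obtain ⟨e⟩ := ((Group.isNilpotent_of_finite_tfae (G := K)).out 0 4).mp hK
  let a := e.symm ⟨x, hx⟩
  let b := e.symm ⟨y, hy⟩
  have hab : Commute a b := by
    show a * b = b * a
    funext p P
    haveI : Fact (p : ℕ).Prime := ⟨Nat.prime_of_mem_primeFactors p.2⟩
    obtain ⟨m, hm⟩ := IsPGroup.iff_orderOf.mp P.isPGroup' (a p P)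
    obtain ⟨n, hn⟩ := IsPGroup.iff_orderOf.mp P.isPGroup' (b p P)
    have h1 : orderOf (a p P) ∣ orderOf x := by
      refine orderOf_dvd_of_pow_eq_one ?_
      have : a ^ orderOf x = 1 := by
        rw [← Subgroup.orderOf_mk x hx, ← e.symm.orderOf_eq]; exact pow_orderOf_eq_one a
      exact congrFun (congrFun this p) P
    have h2 : orderOf (b p P) ∣ orderOf y := by
      refine orderOf_dvd_of_pow_eq_one ?_
      have : b ^ orderOf y = 1 := by
        rw [← Subgroup.orderOf_mk y hy, ← e.symm.orderOf_eq]; exact pow_orderOf_eq_one b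
      exact congrFun (congrFun this p) P
    rcases Nat.eq_zero_or_pos m with rfl | hm0
    · rw [pow_zero, orderOf_eq_one_iff] at hm
      simp [Pi.mul_apply, hm]
    · rcases Nat.eq_zero_or_pos n with rfl | hn0
      · rw [pow_zero, orderOf_eq_one_iff] at hn
        simp [Pi.mul_apply, hn]
      · exfalso
        have h3 : (p : ℕ) ∣ Nat.gcd (orderOf x) (orderOf y) :=
          Nat.dvd_gcd ((dvd_pow_self _ hm0.ne').trans (hm ▸ h1))
            ((dvd_pow_self _ hn0.ne').trans (hn ▸ h2))
        rw [h] at h3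
        exact (Fact.out : (p : ℕ).Prime).not_dvd_one h3
  have := congrArg Subtype.val (hab.map e.toMonoidHom).eq
  show x * y = y * x
  simpa [a, b] using this

theorem exists_prime_part {g : G} (hg : g ≠ 1) : ∃ (r : ℕ) (x : G), r.Prime ∧ x ≠ 1 ∧
    x ∈ Subgroup.zpowers g ∧ ∃ k, orderOf x = r ^ k := by
  obtain ⟨r, hr, hd⟩ := Nat.exists_prime_and_dvd (fun h => hg (orderOf_eq_one_iff.mp h))
  haveI := Fact.mk hr
  obtain ⟨z, hz⟩ := exists_prime_orderOf_dvd_card' (G := Subgroup.zpowers g) r
    (by rwa [Nat.card_zpowers])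
  refine ⟨r, z, hr, fun h => ?_, z.2, 1, by rw [pow_one, Subgroup.orderOf_coe]; exact hz⟩
  rw [OneMemClass.coe_eq_one] at h
  rw [h, orderOf_one] at hz
  exact hr.ne_one hz.symm

/-- Prime power components generate. -/
theorem mem_of_primePow (H : Subgroup G) (g : G)
    (h : ∀ (r : ℕ) (x : G), r.Prime → x ∈ Subgroup.zpowers g → (∃ k, orderOf x = r ^ k) → x ∈ H) :
    g ∈ H := by
  suffices ∀ (n : ℕ) (x : G), x ∈ Subgroup.zpowers g → orderOf x = n → x ∈ H from
    this _ g (Subgroup.mem_zpowers g) rfl
  intro n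
  induction n using Nat.recOnPrimeCoprime with
  | zero => intro x _ hx; exact absurd hx (orderOf_pos x).ne'
  | prime_pow r k hr => intro x hx hxo; exact h r x hr hx ⟨k, hxo⟩
  | coprime a b ha hb hab iha ihb =>
    intro x hx hxo
    obtain ⟨s, t, hst⟩ : ∃ s t : ℤ, s * a + t * b = 1 :=
      ⟨Nat.gcdA a b, Nat.gcdB a b, by
        have := Nat.gcd_eq_gcd_ab a b
        rw [hab] at this
        push_cast at this
        linarith⟩
    have e : x = (x ^ a) ^ s * (x ^ b) ^ t := by
      rw [← zpow_natCast, ← zpow_natCast, ← zpow_mul, ← zpow_mul, ← zpow_add,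
        show (a : ℤ) * s + (b : ℤ) * t = 1 by linarith, zpow_one]
    rw [e]
    refine H.mul_mem (H.zpow_mem (ihb _ (pow_mem hx a) ?_) s) (H.zpow_mem (iha _ (pow_mem hx b) ?_) t)
    · rw [orderOf_pow' x (by omega : a ≠ 0), hxo, Nat.gcd_eq_right (Dvd.intro b rfl),
        Nat.mul_div_cancel_left b (by omega)]
    · rw [orderOf_pow' x (by omega : b ≠ 0), hxo, Nat.gcd_eq_right (Dvd.intro_left a rfl),
        Nat.mul_div_cancel a (by omega)]

variable (hCN : Cfsg.IsCNGroup G)
include hCN

/-- Two elements of coprime order with a common nontrivial fixed element commute. -/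
theorem commute_of_common {v x y : G} (hv : v ≠ 1) (hx : Commute v x) (hy : Commute v y)
    (h : Nat.Coprime (orderOf x) (orderOf y)) : Commute x y :=
  commute_of_coprime (hCN v hv) (Subgroup.mem_centralizer_singleton_iff.mpr hx.eq.symm)
    (Subgroup.mem_centralizer_singleton_iff.mpr hy.eq.symm) h

theorem subgroup (H : Subgroup G) : Cfsg.IsCNGroup H := by
  intro g hg
  haveI : Group.IsNilpotent (Subgroup.centralizer ({(g : G)} : Set G)) :=
    hCN g (fun h => hg (Subtype.ext h))
  let f : Subgroup.centralizer ({g} : Set H) →* Subgroup.centralizer ({(g : G)} : Set G) :=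
    { toFun := fun c => ⟨((c : H) : G), Subgroup.mem_centralizer_singleton_iff.mpr
        (congrArg Subtype.val (Subgroup.mem_centralizer_singleton_iff.mp c.2))⟩
      map_one' := rfl
      map_mul' := fun _ _ => rfl }
  refine Subgroup.isNilpotent_of_ker_le_center f ?_
  rw [(MonoidHom.ker_eq_bot_iff f).mpr fun a b h => Subtype.ext (Subtype.ext
    (congrArg (fun z => ((z : Subgroup.centralizer ({(g : G)} : Set G)) : G)) h))]
  exact bot_le

end Cfsg.Agent.CN
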