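import Cfsg.Agent.Lib.Solvable.FixedPointFree
import Mathlib.GroupTheory.SemidirectProduct
import Mathlib.GroupTheory.SpecificGroups.ZGroup

/-!
# Groups of odd order with a fixed-point-free action
-/

set_option autoImplicit false
set_option linter.style.haveILetI false

namespace Cfsg.Agent.CN

universe u v

theorem isCyclic_of_fpf {Z : Type u} [Group Z] [Finite Z] [Nontrivial Z] {P : Type v} [Group P]
    [Finite P] {r : ℕ} [Fact r.Prime] (hP : IsPGroup r P) (hr : r ≠ 2) (φ : P →* MulAut Z)
    (hfpf : ∀ a : P, a ≠ 1 → ∀ z : Z, φ a z = z → z = 1) : IsCyclic P := by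
  haveI : Finite (Z ⋊[φ] P) := Finite.of_equiv _ SemidirectProduct.equivProd.symm
  set K := (SemidirectProduct.inl : Z →* Z ⋊[φ] P).range with hK
  set A := (SemidirectProduct.inr : P →* Z ⋊[φ] P).range with hA
  have hKne : K ≠ ⊥ := by
    obtain ⟨z, hz⟩ := exists_ne (1 : Z)
    intro h
    have : SemidirectProduct.inl (φ := φ) z ∈ K := ⟨z, rfl⟩
    rw [h, Subgroup.mem_bot, ← map_one (SemidirectProduct.inl (φ := φ))] at this
    exact hz (SemidirectProduct.inl_injective this)
  have hAK : A ≤ Subgroup.normalizer (K : Set (Z ⋊[φ] P)) := by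
    rw [show Subgroup.normalizer (K : Set (Z ⋊[φ] P)) = ⊤ from by
      rw [hK, SemidirectProduct.range_inl_eq_ker_rightHom]; exact Subgroup.normalizer_eq_top _]
    exact le_top
  have hf : ∀ a ∈ A, a ≠ 1 → K ⊓ Subgroup.centralizer {a} = ⊥ := by
    rintro _ ⟨a, rfl⟩ ha
    rw [eq_bot_iff]
    rintro _ ⟨⟨z, rfl⟩, hz⟩
    rw [Subgroup.mem_bot]
    have ha' : a ≠ 1 := fun h => ha (by rw [h, map_one])
    have h2 := SemidirectProduct.inl_aut (φ := φ) a z
    rw [← (Subgroup.mem_centralizer_singleton_iff.mp hz), mul_assoc, ← map_mul,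
      mul_inv_cancel, map_one, mul_one] at h2
    rw [hfpf a ha' z (SemidirectProduct.inl_injective h2), map_one]
  have hab := FpfStruct.abCyclic hKne hAK hf
  have hAp : IsPGroup r A := by
    rw [hA]
    exact IsPGroup.of_surjective hP _ (MonoidHom.rangeRestrict_surjective _)
  rcases FpfStruct.cyclic_or_quaternion hAp hab with h | ⟨h2, -⟩
  · exact isCyclic_of_surjective
      (MonoidHom.ofInjective (SemidirectProduct.inr_injective (φ := φ))).symm
      (MulEquiv.surjective _)
  · exact absurd h2 hr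

/-- A finite group of odd order with a fixed-point-free action is a Z-group. -/
theorem isZGroup_of_fpf {Z : Type u} [Group Z] [Finite Z] [Nontrivial Z] {A : Type v} [Group A]
    [Finite A] (hA : Odd (Nat.card A)) (φ : A →* MulAut Z)
    (hfpf : ∀ a : A, a ≠ 1 → ∀ z : Z, φ a z = z → z = 1) : IsZGroup A := by
  refine ⟨fun r hr P => ?_⟩
  haveI := Fact.mk hr
  by_cases h1 : r ∣ Nat.card A
  · refine isCyclic_of_fpf P.isPGroup' (fun h => ?_) (φ.comp (P : Subgroup A).subtype)
      fun a ha z hz => hfpf a (fun e => ha (Subtype.ext e)) z hz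
    exact Nat.not_even_iff_odd.mpr hA (even_iff_two_dvd.mpr (h ▸ h1))
  · have hbot : (P : Subgroup A) = ⊥ := by
      rw [← Subgroup.card_eq_one, P.card_eq_multiplicity, Nat.factorization_eq_zero_of_not_dvd h1,
        pow_zero]
    haveI : Subsingleton (P : Subgroup A) := by rw [hbot]; infer_instance
    exact isCyclic_of_subsingleton

end Cfsg.Agent.CN
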