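import Cfsg.Agent.Lib.CN.Sylow
import Cfsg.Agent.Lib.Char.FHT.Main
import Cfsg.Agent.Lib.Solvable.Frobenius

/-!
# The Feit–Hall–Thompson CN theorem
-/

set_option autoImplicit false
set_option linter.style.haveILetI false
set_option linter.unusedSectionVars false

open scoped Pointwise

namespace Cfsg.Agent.CN

universe u

variable {G : Type u} [Group G] [Finite G]

/-- A nilpotent Hall subgroup containing the centralisers of its nontrivial elements. -/
structure Good (K : Subgroup G) : Prop where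
  nil : Group.IsNilpotent K
  ne_bot : K ≠ ⊥
  sylow : ∀ t : ℕ, t.Prime → t ∣ Nat.card K → ∀ [Fact t.Prime], ∃ T : Sylow t G, (T : Subgroup G) ≤ K
  cent : ∀ k ∈ K, k ≠ 1 → Subgroup.centralizer ({k} : Set G) ≤ K

theorem Good.center {K : Subgroup G} (h : Good K) :
    ∃ w ∈ K, w ≠ 1 ∧ K ≤ Subgroup.centralizer ({w} : Set G) := by
  haveI := h.nil
  haveI : Nontrivial K := (Subgroup.nontrivial_iff_ne_bot K).mpr h.ne_bot
  obtain ⟨⟨w, _, hwc⟩, hw1⟩ := Subgroup.ne_bot_iff_exists_ne_one.1
    (SolvStruct.inf_center_ne_bot (G := K) (N := ⊤) top_ne_bot)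
  refine ⟨(w : G), w.2, fun e => hw1 (Subtype.ext (Subtype.ext e)), fun k hk => ?_⟩
  exact Subgroup.mem_centralizer_singleton_iff.mpr
    (congrArg Subtype.val (Subgroup.mem_center_iff.mp hwc ⟨k, hk⟩))

theorem Good.le_of_meet {K K' : Subgroup G} (h : Good K) (h' : Good K') {x : G} (hx : x ∈ K)
    (hx' : x ∈ K') (hx1 : x ≠ 1) : K ≤ K' := by
  obtain ⟨w, -, hw1, hKw⟩ := h.center
  have hw' : w ∈ K' := h'.cent x hx' hx1 (Subgroup.mem_centralizer_singleton_iff.mpr
    (Subgroup.mem_centralizer_singleton_iff.mp (hKw hx)).symm)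
  exact hKw.trans (h'.cent w hw' hw1)

theorem Good.eq_of_meet {K K' : Subgroup G} (h : Good K) (h' : Good K') {x : G} (hx : x ∈ K)
    (hx' : x ∈ K') (hx1 : x ≠ 1) : K = K' :=
  le_antisymm (h.le_of_meet h' hx hx' hx1) (h'.le_of_meet h hx' hx hx1)

theorem Good.conj {K : Subgroup G} (h : Good K) (g : G) :
    Good (K.map (MulAut.conj g).toMonoidHom) := by
  set c := (MulAut.conj g).toMonoidHom with hc
  have hinj : Function.Injective c := (MulAut.conj g).injective
  have hcard : Nat.card (K.map c) = Nat.card K := Subgroup.card_map_of_injective hinj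
  refine ⟨?_, ?_, fun t ht hd _ => ?_, ?_⟩
  · haveI := h.nil
    exact Group.nilpotent_of_surjective (c.subgroupMap K) (MonoidHom.subgroupMap_surjective _ _)
  · rw [Ne, Subgroup.map_eq_bot_iff_of_injective _ hinj]; exact h.ne_bot
  · obtain ⟨T, hT⟩ := h.sylow t ht (hcard ▸ hd)
    refine ⟨g • T, ?_⟩
    rintro x hx
    rw [Sylow.coe_subgroup_smul, Subgroup.mem_pointwise_smul_iff_inv_smul_mem, ← map_inv,
      MulAut.smul_def, MulAut.conj_apply, inv_inv] at hx
    exact ⟨_, hT hx, by simp [hc, mul_assoc]⟩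
  · rintro _ ⟨k, hk, rfl⟩ hk1 y hy
    have hk1' : k ≠ 1 := fun e => hk1 (by rw [e, map_one])
    refine ⟨g⁻¹ * y * g, h.cent k hk hk1' ?_, by simp [hc, mul_assoc]⟩
    rw [Subgroup.mem_centralizer_singleton_iff] at hy ⊢
    simp only [hc, MulEquiv.coe_toMonoidHom, MulAut.conj_apply] at hy
    calc g⁻¹ * y * g * k = g⁻¹ * (y * (g * k * g⁻¹)) * g := by group
      _ = k * (g⁻¹ * y * g) := by rw [hy]; group

theorem mem_sylow_of_mem {L : Subgroup G} (hL : Group.IsNilpotent L) {p : ℕ} [Fact p.Prime]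
    (P : Sylow p G) (hPL : (P : Subgroup G) ≤ L) {w : G} (hw : w ∈ L)
    (hwp : ∃ k, orderOf w = p ^ k) : w ∈ P := by
  obtain ⟨k, hk⟩ := hwp
  haveI := hL
  haveI : ((P.subtype hPL : Sylow p L) : Subgroup L).Normal := inferInstance
  obtain ⟨S, hS⟩ := (IsPGroup.of_card (n := k) (by
    rw [Nat.card_zpowers, Subgroup.orderOf_mk, hk]) :
      IsPGroup p (Subgroup.zpowers (⟨w, hw⟩ : L))).exists_le_sylow
  haveI := Sylow.unique_of_normal (P.subtype hPL) ‹_›
  have := hS (Subgroup.mem_zpowers _)
  rw [Subsingleton.elim S (P.subtype hPL)] at this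
  exact this

section simple

variable (hCN : Cfsg.IsCNGroup G)
include hCN

/-- The part of `C(P)` outside: elements of order prime to `p` commuting with a nontrivial element
of `P` centralise `P`. -/
theorem commute_sylow {p : ℕ} [Fact p.Prime] (P : Sylow p G) {x y : G} (hx : x ∈ P) (hx1 : x ≠ 1)
    (hy : (orderOf y).Coprime p) (hxy : Commute x y) {s : G} (hs : s ∈ P) : Commute y s := by
  obtain ⟨z, ⟨hzP, hzc⟩, hz1⟩ : ∃ z ∈ (P : Subgroup G) ⊓ Subgroup.centralizer ((P : Subgroup G) : Set G),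
      z ≠ 1 := by
    have hP1 : (P : Subgroup G) ≠ ⊥ := fun h => hx1 (Subgroup.mem_bot.mp (h ▸ hx))
    obtain ⟨⟨z, hz⟩, hz1⟩ :=
      Subgroup.ne_bot_iff_exists_ne_one.1 (exists_center_inf P.isPGroup' hP1)
    exact ⟨z, hz, fun e => hz1 (Subtype.ext e)⟩
  obtain ⟨k, hk⟩ := exists_pow_of_isPGroup P.isPGroup' hzP
  have hyz : Commute y z := commute_of_common hCN hx1 hxy (hzc x hx) (hk ▸ hy.pow_right k)
  obtain ⟨l, hl⟩ := exists_pow_of_isPGroup P.isPGroup' hs
  exact commute_of_common hCN hz1 hyz.symm (hzc s hs).symm (hl ▸ hy.pow_right l)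

variable [IsSimpleGroup G] (hodd : Odd (Nat.card G)) (hns : ¬ Group.IsSolvable G)
  (hsol : ∀ K : Subgroup G, K ≠ ⊤ → Group.IsSolvable K)
include hodd hns hsol

theorem exists_good {p : ℕ} (hp : p.Prime) (hpG : p ∣ Nat.card G) :
    ∃ K : Subgroup G, Good K ∧ p ∣ Nat.card K := by
  haveI := Fact.mk hp
  obtain ⟨P⟩ : Nonempty (Sylow p G) := inferInstance
  have hP1 : (P : Subgroup G) ≠ ⊥ := P.ne_bot_of_dvd_card hpG
  obtain ⟨⟨z, hzP, hzc⟩, hz1'⟩ :=
    Subgroup.ne_bot_iff_exists_ne_one.1 (exists_center_inf P.isPGroup' hP1)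
  have hz1 : z ≠ 1 := fun e => hz1' (Subtype.ext e)
  set K := Subgroup.centralizer ({z} : Set G)
  have hPK : (P : Subgroup G) ≤ K := fun s hs => Subgroup.mem_centralizer_singleton_iff.mpr (hzc s hs)
  obtain ⟨kz, hkz⟩ := exists_pow_of_isPGroup P.isPGroup' hzP
  have hKnil : Group.IsNilpotent K := hCN z hz1
  have hmemK : ∀ y : G, Commute z y → y ∈ K := fun y h =>
    Subgroup.mem_centralizer_singleton_iff.mpr h.eq.symm
  have hcopP : ∀ {r : ℕ} {y : G}, r.Prime → r ≠ p → (∃ j, orderOf y = r ^ j) →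
      (orderOf y).Coprime p := fun hr hne ⟨j, hj⟩ =>
    hj ▸ ((Nat.coprime_primes hr hp).mpr hne).pow_left j
  -- every Sylow subgroup meeting `K` nontrivially lies in `K`, except possibly for `p`
  have hHall : ∀ {t : ℕ} [Fact t.Prime] (T : Sylow t G), t ≠ p → ∀ y ∈ T, y ≠ 1 → y ∈ K →
      (T : Subgroup G) ≤ K := by
    intro t _ T htp y hyT hy1 hyK s hs
    refine hmemK s (commute_sylow hCN T hyT hy1 ?_ ?_ hs)
    · rw [hkz]
      exact ((Nat.coprime_primes hp Fact.out).mpr (Ne.symm htp)).pow_left kz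
    · exact (Subgroup.mem_centralizer_singleton_iff.mp hyK)
  have hsylow : ∀ t : ℕ, t.Prime → t ∣ Nat.card K → ∀ [Fact t.Prime],
      ∃ T : Sylow t G, (T : Subgroup G) ≤ K := by
    intro t ht hd _
    by_cases htp : t = p
    · subst htp; exact ⟨P, hPK⟩
    · obtain ⟨y, hy⟩ := exists_prime_orderOf_dvd_card' (G := K) t hd
      obtain ⟨T, hT⟩ := (IsPGroup.of_card (n := 1) (by
        rw [Nat.card_zpowers, Subgroup.orderOf_coe, hy, pow_one]) :
          IsPGroup t (Subgroup.zpowers (y : G))).exists_le_sylow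
      refine ⟨T, hHall T htp y (hT (Subgroup.mem_zpowers _)) (fun e => ?_) y.2⟩
      rw [OneMemClass.coe_eq_one] at e
      rw [e, orderOf_one] at hy
      exact ht.ne_one hy.symm
  refine ⟨K, ⟨hKnil, fun h => hz1 (Subgroup.mem_bot.mp (h ▸ hmemK z (Commute.refl z))), hsylow,
    ?_⟩, (P.dvd_card_of_dvd_card hpG).trans
      (Subgroup.card_dvd_of_le hPK)⟩
  -- the centraliser of an element of prime power order
  suffices key : ∀ (t : ℕ) (k : G), t.Prime → k ∈ K → k ≠ 1 → (∃ j, orderOf k = t ^ j) →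
      Subgroup.centralizer ({k} : Set G) ≤ K by
    intro k hk hk1 y hy
    obtain ⟨t, x, ht, hx1, hxk, hxo⟩ := exists_prime_part hk1
    refine key t x ht (Subgroup.zpowers_le.mpr hk hxk) hx1 hxo ?_
    obtain ⟨n, rfl⟩ := Subgroup.mem_zpowers_iff.mp hxk
    exact Subgroup.mem_centralizer_singleton_iff.mpr
      ((show Commute y k from Subgroup.mem_centralizer_singleton_iff.mp hy).zpow_right n).eq
  intro t k ht hk hk1 hko y hy
  refine mem_of_primePow K y fun s w hs hwy hwo => ?_
  obtain ⟨n, rfl⟩ := Subgroup.mem_zpowers_iff.mp hwy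
  set w := y ^ n
  have hkw : Commute k w :=
    (show Commute y k from Subgroup.mem_centralizer_singleton_iff.mp hy).symm.zpow_right n
  haveI := Fact.mk ht
  by_cases hsp : s = p
  · subst hsp
    by_cases hts : t = s
    · subst hts
      have hkP : k ∈ P := mem_sylow_of_mem hKnil P hPK hk hko
      by_cases hsingle : IsPGroup t K
      · have hKP : K = (P : Subgroup G) := P.is_maximal' hsingle hPK
        have hfree : PFree t G := by
          intro a v ha hac hv hav
          by_contra hv1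
          obtain ⟨j, hj⟩ := hv
          obtain ⟨S, hS⟩ := (IsPGroup.of_card (n := j) (by rw [Nat.card_zpowers, hj]) :
            IsPGroup t (Subgroup.zpowers v)).exists_le_sylow
          obtain ⟨g, hg⟩ := MulAction.exists_smul_eq G S P
          have hvP : g * v * g⁻¹ ∈ P := by
            show g * v * g⁻¹ ∈ (P : Subgroup G)
            rw [← hg, Sylow.coe_subgroup_smul, Subgroup.mem_pointwise_smul_iff_inv_smul_mem,
              ← map_inv, MulAut.smul_def, MulAut.conj_apply]
            simpa [mul_assoc] using hS (Subgroup.mem_zpowers v)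
          have hoa : (orderOf (g * a * g⁻¹)).Coprime t := by
            rwa [← MulEquiv.orderOf_eq (MulAut.conj g) a] at hac
          have hag : g * a * g⁻¹ ∈ K := hmemK _ (commute_sylow hCN P hvP
            (fun e => hv1 (conj_eq_one_iff.mp e)) hoa ((hav.symm).map (MulAut.conj g).toMonoidHom)
            hzP).symm
          rw [hKP] at hag
          exact ha (conj_eq_one_iff.mp (PBasic.eq_one_of_isPGroup_of_coprime P.isPGroup' hag hoa))
        obtain ⟨j, hj⟩ := hwo
        obtain ⟨S, hS⟩ : ∃ S : Sylow t G,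
            Subgroup.zpowers k ⊔ Subgroup.zpowers w ≤ (S : Subgroup G) := by
          haveI : Group.IsNilpotent (Subgroup.centralizer ({k} : Set G)) := hCN k hk1
          have hkk : k ∈ Subgroup.centralizer ({k} : Set G) :=
            Subgroup.mem_centralizer_singleton_iff.mpr rfl
          have hwk : w ∈ Subgroup.centralizer ({k} : Set G) :=
            Subgroup.mem_centralizer_singleton_iff.mpr hkw.eq.symm
          obtain ⟨S₀⟩ : Nonempty (Sylow t (Subgroup.centralizer ({k} : Set G))) := inferInstance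
          obtain ⟨S, hS⟩ := (S₀.isPGroup'.map
            (Subgroup.centralizer ({k} : Set G)).subtype).exists_le_sylow
          refine ⟨S, sup_le (Subgroup.zpowers_le.mpr (hS ?_)) (Subgroup.zpowers_le.mpr (hS ?_))⟩
          all_goals
            haveI := Sylow.unique_of_normal S₀ inferInstance
          · obtain ⟨i, hi⟩ := hko
            obtain ⟨S₁, hS₁⟩ := (IsPGroup.of_card (n := i) (by
              rw [Nat.card_zpowers, Subgroup.orderOf_mk, hi]) : IsPGroup t
                (Subgroup.zpowers (⟨k, hkk⟩ : Subgroup.centralizer ({k} : Set G)))).exists_le_sylow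
            rw [Subsingleton.elim S₁ S₀] at hS₁
            exact ⟨_, hS₁ (Subgroup.mem_zpowers _), rfl⟩
          · obtain ⟨S₁, hS₁⟩ := (IsPGroup.of_card (n := j) (by
              rw [Nat.card_zpowers, Subgroup.orderOf_mk, hj]) : IsPGroup t
                (Subgroup.zpowers (⟨w, hwk⟩ : Subgroup.centralizer ({k} : Set G)))).exists_le_sylow
            rw [Subsingleton.elim S₁ S₀] at hS₁
            exact ⟨_, hS₁ (Subgroup.mem_zpowers _), rfl⟩
        obtain ⟨g, hg⟩ := MulAction.exists_smul_eq G P S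
        have hkS : g⁻¹ * k * g ∈ P := by
          have := hS (Subgroup.mem_sup_left (Subgroup.mem_zpowers k))
          rw [← hg, Sylow.coe_subgroup_smul, Subgroup.mem_pointwise_smul_iff_inv_smul_mem,
            ← map_inv, MulAut.smul_def, MulAut.conj_apply, inv_inv] at this
          exact this
        have hN := sylow_ti hodd hns hsol hpG hfree P hkP hk1 hkS
        have := hS (Subgroup.mem_sup_right (Subgroup.mem_zpowers w))
        rw [← hg, Sylow.smul_eq_iff_mem_normalizer.mpr hN] at this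
        exact hPK this
      · obtain ⟨q, hq, hqd, hqt⟩ : ∃ q, q.Prime ∧ q ∣ Nat.card K ∧ q ≠ t := by
          by_contra hcon
          push Not at hcon
          exact hsingle (IsPGroup.of_card (n := (Nat.card K).primeFactorsList.length)
            (Nat.eq_prime_pow_of_unique_prime_dvd Nat.card_pos.ne' fun {d} hd hdd => hcon d hd hdd))
        haveI := Fact.mk hq
        obtain ⟨Q, hQ⟩ := hsylow q hq hqd
        obtain ⟨q₀, hq₀, hq₀1⟩ : ∃ v ∈ (Q : Subgroup G), v ≠ 1 := by
          obtain ⟨⟨v, hv⟩, hv1⟩ := Subgroup.ne_bot_iff_exists_ne_one.1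
            (Q.ne_bot_of_dvd_card (hqd.trans (Subgroup.card_subgroup_dvd_card K)))
          exact ⟨v, hv, fun e => hv1 (Subtype.ext e)⟩
        obtain ⟨i, hi⟩ := exists_pow_of_isPGroup Q.isPGroup' hq₀
        obtain ⟨j, hj⟩ := hko
        have hqk : Commute q₀ k := commute_of_coprime hKnil (hQ hq₀) hk
          (by rw [hi, hj]; exact ((Nat.coprime_primes hq ht).mpr hqt).pow i j)
        obtain ⟨l, hl⟩ := hwo
        have hwq : Commute q₀ w := commute_of_common hCN hk1 hqk.symm hkw
          (by rw [hi, hl]; exact ((Nat.coprime_primes hq ht).mpr hqt).pow i l)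
        have hPq : (P : Subgroup G) ≤ Subgroup.centralizer ({q₀} : Set G) := fun a ha => by
          obtain ⟨m, hm⟩ := exists_pow_of_isPGroup P.isPGroup' ha
          exact Subgroup.mem_centralizer_singleton_iff.mpr (commute_of_coprime hKnil (hQ hq₀)
            (hPK ha) (by rw [hi, hm]; exact ((Nat.coprime_primes hq ht).mpr hqt).pow i m)).eq.symm
        exact hPK (mem_sylow_of_mem (hCN q₀ hq₀1) P hPq
          (Subgroup.mem_centralizer_singleton_iff.mpr hwq.eq.symm) ⟨l, hl⟩)
    · obtain ⟨T, hT⟩ := hsylow t ht (by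
        obtain ⟨j, hj⟩ := hko
        have : orderOf k ∣ Nat.card K := Subgroup.orderOf_dvd_natCard K hk
        rw [hj] at this
        rcases Nat.eq_zero_or_pos j with rfl | hjpos
        · rw [pow_zero, orderOf_eq_one_iff] at hj; exact absurd hj hk1
        · exact (dvd_pow_self t hjpos.ne').trans this)
      have hkT : k ∈ T := mem_sylow_of_mem hKnil T hT hk hko
      obtain ⟨z', ⟨hz'T, hz'c⟩, hz'1⟩ : ∃ z' ∈ (T : Subgroup G) ⊓
          Subgroup.centralizer ((T : Subgroup G) : Set G), z' ≠ 1 := by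
        obtain ⟨⟨v, hv⟩, hv1⟩ := Subgroup.ne_bot_iff_exists_ne_one.1 (exists_center_inf T.isPGroup'
          (fun h => hk1 (Subgroup.mem_bot.mp (h ▸ hkT))))
        exact ⟨v, hv, fun e => hv1 (Subtype.ext e)⟩
      obtain ⟨l, hl⟩ := hwo
      have hwT : Commute w z' := commute_sylow hCN T hkT hk1
        (hl ▸ ((Nat.coprime_primes hs ht).mpr (Ne.symm hts)).pow_left l) hkw hz'T
      have hPz : (P : Subgroup G) ≤ Subgroup.centralizer ({z'} : Set G) := fun a ha => by
        obtain ⟨m, hm⟩ := exists_pow_of_isPGroup P.isPGroup' ha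
        obtain ⟨i, hi⟩ := exists_pow_of_isPGroup T.isPGroup' hz'T
        exact Subgroup.mem_centralizer_singleton_iff.mpr (commute_of_coprime hKnil (hPK ha)
          (hT hz'T) (by rw [hm, hi]; exact ((Nat.coprime_primes hs ht).mpr (Ne.symm hts)).pow m i)).eq
      exact hPK (mem_sylow_of_mem (hCN z' hz'1) P hPz
        (Subgroup.mem_centralizer_singleton_iff.mpr hwT.eq) ⟨l, hl⟩)
  · refine hmemK w ?_
    by_cases htp : t = p
    · subst htp
      exact (commute_sylow hCN P (mem_sylow_of_mem hKnil P hPK hk hko) hk1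
        (hcopP hs hsp hwo) hkw hzP).symm
    · obtain ⟨l, hl⟩ := hwo
      refine commute_of_common hCN hk1 ?_ hkw
        (by rw [hkz, hl]; exact ((Nat.coprime_primes hp hs).mpr (Ne.symm hsp)).pow kz l)
      exact Subgroup.mem_centralizer_singleton_iff.mp hk

theorem good_proper {K : Subgroup G} (hK : Good K) :
    K < Subgroup.normalizer (K : Set G) := by
  refine lt_of_le_of_ne Subgroup.le_normalizer fun heq => ?_
  have hKtop : K ≠ ⊤ := fun h => hns (by
    haveI := hK.nil
    haveI : Group.IsNilpotent G := by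
      haveI : Group.IsNilpotent (⊤ : Subgroup G) := h ▸ hK.nil
      exact Group.nilpotent_of_mulEquiv Subgroup.topEquiv
    infer_instance)
  have hfc : Cfsg.IsFrobeniusComplement K := by
    refine ⟨hK.ne_bot, hKtop, fun g hg => ?_⟩
    rw [eq_bot_iff]
    intro x hx
    rw [Subgroup.mem_bot]
    by_contra hx1
    have hx' : x ∈ K.map (MulAut.conj g).toMonoidHom := hx.2
    have e := hK.eq_of_meet (hK.conj g) hx.1 hx' hx1
    apply hg
    rw [heq]
    refine Subgroup.mem_normalizer_iff.mpr fun y => ?_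
    constructor
    · intro hy
      rw [e]
      exact ⟨y, hy, rfl⟩
    · intro hy
      rw [e] at hy
      obtain ⟨y', hy', h⟩ := hy
      simpa [(MulAut.conj g).injective (show MulAut.conj g y' = MulAut.conj g y from h)] using hy'
  obtain ⟨N, -, hNn, hNbot, hcompl, -, -, -, -⟩ := FrobeniusStruct.exists_kernel hfc
  rcases Subgroup.Normal.eq_bot_or_eq_top hNn with h | h
  · exact hNbot h
  · subst h
    exact hK.ne_bot (Subgroup.isComplement'_top_left.mp hcompl)

/-- No group of odd order satisfies the hypotheses. -/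
theorem simple_contra : False := by
  haveI : Fintype G := Fintype.ofFinite G
  classical
  choose Kf hKf hpK using fun (p : {p : ℕ // p.Prime ∧ p ∣ Nat.card G}) =>
    exists_good hCN hodd hns hsol p.2.1 p.2.2
  -- minimal representatives
  let ι := {p : {p : ℕ // p.Prime ∧ p ∣ Nat.card G} //
    ∀ q : {p : ℕ // p.Prime ∧ p ∣ Nat.card G}, q.1 ∣ Nat.card (Kf p) → p.1 ≤ q.1}
  haveI : Finite {p : ℕ // p.Prime ∧ p ∣ Nat.card G} :=
    Set.Finite.to_subtype ((Set.finite_le_nat (Nat.card G)).subset fun p hp =>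
      Nat.le_of_dvd Nat.card_pos hp.2)
  haveI : Fintype ι := Fintype.ofFinite ι
  have hshare : ∀ p q : {p : ℕ // p.Prime ∧ p ∣ Nat.card G}, ∀ {t : ℕ}, t.Prime →
      t ∣ Nat.card (Kf p) → t ∣ Nat.card (Kf q) →
      ∃ g : G, (Kf p).map (MulAut.conj g).toMonoidHom = Kf q := by
    intro p q t ht h1 h2
    haveI := Fact.mk ht
    obtain ⟨T, hT⟩ := (hKf p).sylow t ht h1
    obtain ⟨T', hT'⟩ := (hKf q).sylow t ht h2
    obtain ⟨g, hg⟩ := MulAction.exists_smul_eq G T T'
    refine ⟨g, ?_⟩
    obtain ⟨⟨v, hv⟩, hv1⟩ := Subgroup.ne_bot_iff_exists_ne_one.1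
      (T'.ne_bot_of_dvd_card (h2.trans (Subgroup.card_subgroup_dvd_card _)))
    refine ((hKf p).conj g).eq_of_meet (hKf q) (x := v) ?_ (hT' hv) fun e => hv1 (Subtype.ext e)
    have hv' := hv
    rw [← hg, Sylow.coe_subgroup_smul, Subgroup.mem_pointwise_smul_iff_inv_smul_mem, ← map_inv,
      MulAut.smul_def, MulAut.conj_apply, inv_inv] at hv'
    exact ⟨_, hT hv', by simp [mul_assoc]⟩
  have hrep : ∀ p : {p : ℕ // p.Prime ∧ p ∣ Nat.card G}, ∃ i : ι, i.1.1 ∣ Nat.card (Kf p) := by
    intro p
    obtain ⟨q, hq, hmin⟩ := Set.exists_min_image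
      {q : {p : ℕ // p.Prime ∧ p ∣ Nat.card G} | q.1 ∣ Nat.card (Kf p)} (fun q => q.1)
      (Set.toFinite _) ⟨p, hpK p⟩
    refine ⟨⟨q, fun r hr => hmin r ?_⟩, hq⟩
    obtain ⟨g, hg⟩ := hshare q p q.2.1 (hpK q) hq
    show r.1 ∣ Nat.card (Kf p)
    rw [← hg, Subgroup.card_map_of_injective (f := (MulAut.conj g).toMonoidHom)
      (MulAut.conj g).injective]
    exact hr
  haveI : Nontrivial G := IsSimpleGroup.toNontrivial
  obtain ⟨p₀, hp₀, hp₀d⟩ := Nat.exists_prime_and_dvd (Finite.one_lt_card (α := G)).ne'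
  haveI : Nonempty ι := ⟨(hrep ⟨p₀, hp₀, hp₀d⟩).choose⟩
  refine Char.FHT.contra (fun i : ι => Kf i.1) (fun i => ?_) ?_ ?_ ?_
  · have hlt := good_proper hCN hodd hns hsol (hKf i.1)
    refine ⟨hodd, fun g hg x hx hgx => ?_, (hKf i.1).cent, hlt,
      Char.FHT.exists_lin (hKf i.1).ne_bot hlt (hKf i.1).cent⟩
    by_contra hx1
    apply hg
    have e := ((hKf i.1).conj g).eq_of_meet (hKf i.1)
      (x := g * x * g⁻¹) ⟨x, hx, rfl⟩ hgx (fun h => hx1 (conj_eq_one_iff.mp h))
    refine Subgroup.mem_normalizer_iff.mpr fun y => ?_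
    constructor
    · intro hy
      rw [← e]
      exact ⟨y, hy, rfl⟩
    · intro hy
      rw [← e] at hy
      obtain ⟨y', hy', h⟩ := hy
      simpa [(MulAut.conj g).injective (show MulAut.conj g y' = MulAut.conj g y from h)] using hy'
  · intro i j hij x y hy hxy
    by_contra hy1
    obtain ⟨t, ht, htd⟩ := Nat.exists_prime_and_dvd (fun h => hy1 (orderOf_eq_one_iff.mp h))
    have hi : t ∣ Nat.card (Kf i.1) := htd.trans (by
      rw [← MulEquiv.orderOf_eq (MulAut.conj x) y]
      exact Subgroup.orderOf_dvd_natCard _ hxy)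
    have hj : t ∣ Nat.card (Kf j.1) := htd.trans (Subgroup.orderOf_dvd_natCard _ hy)
    obtain ⟨g, hg⟩ := hshare i.1 j.1 ht hi hj
    have hcard : Nat.card (Kf j.1) = Nat.card (Kf i.1) := by
      rw [← hg, Subgroup.card_map_of_injective (f := (MulAut.conj g).toMonoidHom)
        (MulAut.conj g).injective]
    exact hij (Subtype.ext (Subtype.ext (le_antisymm (i.2 j.1 (hcard ▸ hpK j.1))
      (j.2 i.1 (hcard.symm ▸ hpK i.1)))))
  · intro i j hij
    refine Nat.coprime_of_dvd' fun t ht hi hj => absurd ?_ hij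
    obtain ⟨g, hg⟩ := hshare i.1 j.1 ht hi hj
    have hcard : Nat.card (Kf j.1) = Nat.card (Kf i.1) := by
      rw [← hg, Subgroup.card_map_of_injective (f := (MulAut.conj g).toMonoidHom)
        (MulAut.conj g).injective]
    exact Subtype.ext (Subtype.ext (le_antisymm (i.2 j.1 (hcard ▸ hpK j.1))
      (j.2 i.1 (hcard.symm ▸ hpK i.1))))
  · intro y hy
    obtain ⟨t, w, ht, hw1, hwy, k, hk⟩ := exists_prime_part hy
    have htG : t ∣ Nat.card G := by
      rcases Nat.eq_zero_or_pos k with rfl | hkpos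
      · rw [pow_zero, orderOf_eq_one_iff] at hk; exact absurd hk hw1
      · exact (dvd_pow_self t hkpos.ne').trans (hk ▸ orderOf_dvd_natCard w)
    obtain ⟨i, hi⟩ := hrep ⟨t, ht, htG⟩
    refine ⟨i, ?_⟩
    obtain ⟨g₀, hg₀⟩ := hshare ⟨t, ht, htG⟩ i.1 i.1.2.1 hi (hpK i.1)
    haveI := Fact.mk ht
    obtain ⟨T, hT⟩ := (hKf i.1).sylow t ht (by
      rw [← hg₀, Subgroup.card_map_of_injective (f := (MulAut.conj g₀).toMonoidHom)
        (MulAut.conj g₀).injective]
      exact hpK ⟨t, ht, htG⟩)
    obtain ⟨S, hS⟩ := (IsPGroup.of_card (n := k) (by rw [Nat.card_zpowers, hk]) :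
      IsPGroup t (Subgroup.zpowers w)).exists_le_sylow
    obtain ⟨g, hg⟩ := MulAction.exists_smul_eq G S T
    refine ⟨g, ?_⟩
    have hwT : g * w * g⁻¹ ∈ T := by
      show g * w * g⁻¹ ∈ (T : Subgroup G)
      rw [← hg, Sylow.coe_subgroup_smul, Subgroup.mem_pointwise_smul_iff_inv_smul_mem, ← map_inv,
        MulAut.smul_def, MulAut.conj_apply]
      simpa [mul_assoc] using hS (Subgroup.mem_zpowers w)
    refine (hKf i.1).cent _ (hT hwT) (fun e => hw1 (conj_eq_one_iff.mp e))
      (Subgroup.mem_centralizer_singleton_iff.mpr ?_)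
    obtain ⟨n, rfl⟩ := Subgroup.mem_zpowers_iff.mp hwy
    exact ((Commute.refl y).zpow_right n).map (MulAut.conj g).toMonoidHom |>.eq

end simple

/-- The CN theorem: a group of odd order with nilpotent centralisers is solvable. -/
theorem solvable : ∀ (n : ℕ) (G : Type u) [Group G] [Finite G], Nat.card G = n →
    Odd (Nat.card G) → Cfsg.IsCNGroup G → Group.IsSolvable G := by
  intro n
  induction n using Nat.strong_induction_on with
  | _ n IH =>
    intro G _ _ hn hodd hCN
    subst hn
    by_contra hns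
    have IH' : ∀ (K : Type u) [Group K] [Finite K], Nat.card K < Nat.card G → Odd (Nat.card K) →
        Cfsg.IsCNGroup K → Group.IsSolvable K := fun K _ _ h => IH _ h K rfl
    have hsol : ∀ K : Subgroup G, K ≠ ⊤ → Group.IsSolvable K := fun K hK =>
      IH' K (lt_of_le_of_ne (Subgroup.card_le_card_group K) fun h =>
          hK (Subgroup.card_eq_iff_eq_top K |>.mp h))
        (hodd.of_dvd_nat (Subgroup.card_subgroup_dvd_card K)) (subgroup hCN K)
    haveI : Nontrivial G := by
      by_contra h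
      haveI := not_nontrivial_iff_subsingleton.mp h
      exact hns inferInstance
    haveI : IsSimpleGroup G := by
      refine ⟨fun N hN => ?_⟩
      by_contra hcon
      push Not at hcon
      haveI := hsol N hcon.2
      obtain ⟨M, hMn, -, hMab, hMne⟩ : ∃ M : Subgroup G, M.Normal ∧ True ∧
          Group.IsNilpotent M ∧ M ≠ ⊥ := by
        haveI := hN
        by_cases hF : Cfsg.fittingSubgroup N = ⊥
        · exfalso
          have := FittingCores.centralizer_fitting_le (G := N)
          rw [hF] at this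
          have htop : (⊤ : Subgroup N) ≤ ⊥ := fun x _ => this (by
            intro y hy
            rw [SetLike.mem_coe, Subgroup.mem_bot] at hy
            subst hy; simp)
          haveI : Nontrivial N := (Subgroup.nontrivial_iff_ne_bot N).mpr hcon.1
          exact top_ne_bot (le_bot_iff.mp htop)
        · refine ⟨(Cfsg.fittingSubgroup N).map N.subtype,
            FittingCores.normal_map_of_characteristic hN ?_, trivial, ?_, ?_⟩
          · exact FittingCores.fitting_characteristic
          · haveI : Group.IsNilpotent (Cfsg.fittingSubgroup N) := FittingCores.fitting_nilpotent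
            exact Group.nilpotent_of_surjective (N.subtype.subgroupMap _)
              (MonoidHom.subgroupMap_surjective _ _)
          · rwa [Ne, Subgroup.map_eq_bot_iff_of_injective _ N.subtype_injective]
      haveI := hMab
      obtain ⟨q, hq, hqd⟩ := Nat.exists_prime_and_dvd (fun h => hMne (Subgroup.card_eq_one.mp h))
      haveI := Fact.mk hq
      obtain ⟨S⟩ : Nonempty (Sylow q M) := inferInstance
      refine hns (solvable_of_pCore hCN hodd (q := q) (fun h => ?_) IH')
      have h2 := FittingCores.sylow_le_pCore_of_nilpotent hMn q S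
      rw [h, le_bot_iff, Subgroup.map_eq_bot_iff_of_injective _ M.subtype_injective] at h2
      exact S.ne_bot_of_dvd_card hqd h2
    exact simple_contra hCN hodd hns hsol

end Cfsg.Agent.CN
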