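import Cfsg.Agent.Lib.CN.Quotient
import Cfsg.Agent.Lib.Solvable.Fitting
import Cfsg.Agent.S0039
import Cfsg.Agent.S0069
import Cfsg.Prelude.Def_OddOrderLocal
import Mathlib.GroupTheory.SchurZassenhaus

/-!
# CN groups with a nontrivial normal `q`-subgroup: quotients, normal Sylow subgroups
-/

set_option autoImplicit false
set_option linter.style.haveILetI false
set_option linter.unusedSectionVars false

namespace Cfsg.Agent.CN

universe u

variable {G : Type u} [Group G] [Finite G]

theorem nilpotent_of_le {A B : Subgroup G} (h : A ≤ B) (hB : Group.IsNilpotent B) :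
    Group.IsNilpotent A := by
  haveI := hB
  refine Subgroup.isNilpotent_of_ker_le_center (Subgroup.inclusion h) ?_
  rw [(MonoidHom.ker_eq_bot_iff _).mpr (Subgroup.inclusion_injective h)]
  exact bot_le

theorem cn_of_mulEquiv {H : Type u} [Group H] [Finite H] (e : H ≃* G) (hCN : Cfsg.IsCNGroup G) :
    Cfsg.IsCNGroup H := by
  intro g hg
  haveI := hCN (e g) (fun h => hg (e.injective (by rw [h, map_one])))
  let f : Subgroup.centralizer ({g} : Set H) →* Subgroup.centralizer ({e g} : Set G) :=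
    { toFun := fun c => ⟨e c, Subgroup.mem_centralizer_singleton_iff.mpr (by
        rw [← map_mul, ← map_mul, Subgroup.mem_centralizer_singleton_iff.mp c.2])⟩
      map_one' := Subtype.ext (map_one e)
      map_mul' := fun a b => Subtype.ext (map_mul e _ _) }
  refine Subgroup.isNilpotent_of_ker_le_center f ?_
  rw [(MonoidHom.ker_eq_bot_iff f).mpr fun a b h => Subtype.ext (e.injective
    (congrArg Subtype.val h))]
  exact bot_le

/-- The centraliser of the centre of `R`. -/
def cc (R : Subgroup G) : Subgroup G :=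
  Subgroup.centralizer ((R ⊓ Subgroup.centralizer (R : Set G) : Subgroup G) : Set G)

instance cc_normal (R : Subgroup G) [R.Normal] : (cc R).Normal := by
  unfold cc; infer_instance

theorem le_cc (R : Subgroup G) : R ≤ cc R := fun r hr z hz => (hz.2 r hr).symm

variable (hCN : Cfsg.IsCNGroup G) {q : ℕ} [Fact q.Prime] {R : Subgroup G} [R.Normal]
  (hR : IsPGroup q R) (hR1 : R ≠ ⊥)
include hCN hR hR1

theorem cc_nilpotent : Group.IsNilpotent (cc R) := by
  obtain ⟨⟨z₀, hz₀⟩, hz₀1⟩ := Subgroup.ne_bot_iff_exists_ne_one.1 (exists_center_inf hR hR1)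
  exact nilpotent_of_le (Subgroup.centralizer_le (by simpa using hz₀))
    (hCN z₀ fun h => hz₀1 (Subtype.ext h))

theorem commute_of_mem_cc {x : G} (hx : x ∈ cc R) (hxq : (orderOf x).Coprime q) {r : G}
    (hr : r ∈ R) : Commute x r := by
  obtain ⟨k, hk⟩ := IsPGroup.iff_orderOf.mp hR ⟨r, hr⟩
  rw [Subgroup.orderOf_mk] at hk
  exact commute_of_coprime (cc_nilpotent hCN hR hR1) hx (le_cc R hr) (hk ▸ hxq.pow_right k)

theorem mem_cc_of_fix {x : G} (hxq : (orderOf x).Coprime q) {r : G} (hr : r ∈ R) (hr1 : r ≠ 1)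
    (hxr : Commute x r) : x ∈ cc R := by
  intro z hz
  obtain ⟨l, hl⟩ := IsPGroup.iff_orderOf.mp hR ⟨z, hz.1⟩
  rw [Subgroup.orderOf_mk] at hl
  exact (commute_of_common hCN hr1 hxr.symm (hz.2 r hr) (hl ▸ hxq.pow_right l)).eq.symm

theorem exists_lift {x h : G} (hxq : (orderOf x).Coprime q) (hxh : x * h * x⁻¹ * h⁻¹ ∈ R) :
    ∃ s ∈ R, Commute x (s⁻¹ * h) := by
  by_cases hx : x ∈ cc R
  · refine ⟨1, R.one_mem, ?_⟩
    rw [inv_one, one_mul]
    set c := x * h * x⁻¹ * h⁻¹ with hc
    set x' := h * x * h⁻¹ with hx'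
    have hx'cc : x' ∈ cc R := (cc_normal R).conj_mem x hx h
    have hx'q : (orderOf x').Coprime q := by
      rwa [hx', ← MulAut.conj_apply, MulEquiv.orderOf_eq]
    have hxc : x = c * x' := by rw [hc, hx']; group
    have hcx' : Commute c x' := (commute_of_mem_cc hCN hR hR1 hx'cc hx'q hxh).symm
    obtain ⟨k, hk⟩ := IsPGroup.iff_orderOf.mp hR ⟨c, hxh⟩
    rw [Subgroup.orderOf_mk] at hk
    have hpow : x' ^ q ^ k = x ^ q ^ k := by
      rw [hxc, hcx'.mul_pow, ← hk, pow_orderOf_eq_one, one_mul]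
    have hx'x : x' = x := by
      have h1 : orderOf x' = orderOf x := by rw [hx', ← MulAut.conj_apply, MulEquiv.orderOf_eq]
      obtain ⟨m, hm⟩ := exists_pow_eq_self_of_coprime (x := x)
        (Nat.Coprime.pow_left k hxq.symm)
      have hm' : (x' ^ q ^ k) ^ m = x' := by
        have e : (q ^ k * m) % orderOf x = 1 % orderOf x := by
          rw [← pow_mul] at hm
          exact pow_eq_pow_iff_modEq.mp (hm.trans (pow_one x).symm)
        rw [← pow_mul]
        conv_rhs => rw [← pow_one x']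
        exact pow_eq_pow_iff_modEq.mpr (h1 ▸ e)
      rw [← hm', hpow, hm]
    show x * h = h * x
    calc x * h = x' * h := by rw [hx'x]
      _ = h * x := by rw [hx']; group
  · exact exists_lift_commute (by rw [Subgroup.normalizer_eq_top]; exact Subgroup.mem_top _)
      (fun r hr hxr => by_contra fun hr1 => hx (mem_cc_of_fix hCN hR hR1 hxq hr hr1 hxr)) hxh

/-- When the centraliser of `Z(R)` is not a `q`-group every `q`-element lies in `O_q(G)`. -/
theorem mem_pCore_of_not_pGroup (hC : ¬ IsPGroup q (cc R)) {h : G}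
    (hh : ∃ k, orderOf h = q ^ k) : h ∈ Cfsg.pCore q G := by
  obtain ⟨t, r, hr, hrq, ht1, htC, j, hj⟩ : ∃ (t : G) (r : ℕ), r.Prime ∧ r ≠ q ∧ t ≠ 1 ∧
      t ∈ cc R ∧ ∃ j, orderOf t = r ^ j := by
    by_contra hcon
    apply hC
    rintro ⟨c, hc⟩
    refine ⟨_, Subtype.ext (orderOf_dvd_iff_pow_eq_one.mp (dvd_of_eq
      (Nat.eq_prime_pow_of_unique_prime_dvd (p := q) (orderOf_pos c).ne' fun {d} hd hdd => ?_)))⟩
    by_contra hne
    haveI := Fact.mk hd
    obtain ⟨z, hz⟩ := exists_prime_orderOf_dvd_card' (G := Subgroup.zpowers c) d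
      (by rwa [Nat.card_zpowers])
    refine hcon ⟨z, d, hd, hne, fun e => ?_, Subgroup.zpowers_le.mpr hc z.2, 1,
      by rw [pow_one, Subgroup.orderOf_coe]; exact hz⟩
    rw [OneMemClass.coe_eq_one] at e
    rw [e, orderOf_one] at hz
    exact hd.ne_one hz.symm
  haveI := Fact.mk hr
  haveI := cc_nilpotent hCN hR hR1
  set T := (Cfsg.pCore r (cc R)).map (cc R).subtype with hT
  haveI hTn : T.Normal :=
    FittingCores.normal_map_of_characteristic (cc_normal R) (PBasic.pCore_characteristic r _)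
  have htT : t ∈ T := by
    obtain ⟨S, hS⟩ : ∃ S : Sylow r (cc R),
        Subgroup.zpowers (⟨t, htC⟩ : cc R) ≤ (S : Subgroup (cc R)) :=
      (IsPGroup.of_card (n := j) (by
        rw [Nat.card_zpowers, Subgroup.orderOf_mk, hj])).exists_le_sylow
    exact ⟨⟨t, htC⟩, PBasic.le_pCore inferInstance S.isPGroup' (hS (Subgroup.mem_zpowers _)), rfl⟩
  have hTp : IsPGroup r T := (PBasic.pCore_isPGroup r _).map _
  obtain ⟨z, hz, hz1, hhz⟩ := exists_fixed hR hR1 hh
  obtain ⟨i, hi⟩ := hh
  have hhT : h ∈ Subgroup.centralizer (T : Set G) := by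
    intro s hs
    obtain ⟨l, hl⟩ := IsPGroup.iff_orderOf.mp hTp ⟨s, hs⟩
    rw [Subgroup.orderOf_mk] at hl
    have hsC : s ∈ cc R := Subgroup.map_subtype_le _ hs
    exact (commute_of_common hCN hz1 hhz.symm (hsC z hz) (by
      rw [hi, hl]; exact ((Nat.coprime_primes Fact.out hr).mpr (Ne.symm hrq)).pow i l)).eq.symm
  set D := Subgroup.centralizer (T : Set G) with hD
  haveI : Group.IsNilpotent D := nilpotent_of_le (Subgroup.centralizer_le (by simpa using htT))
    (hCN t ht1)
  obtain ⟨S, hS⟩ : ∃ S : Sylow q D, Subgroup.zpowers (⟨h, hhT⟩ : D) ≤ (S : Subgroup D) :=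
    (IsPGroup.of_card (n := i) (by rw [Nat.card_zpowers, Subgroup.orderOf_mk, hi])).exists_le_sylow
  exact FittingCores.sylow_le_pCore_of_nilpotent inferInstance q S
    ⟨⟨h, hhT⟩, hS (Subgroup.mem_zpowers _), rfl⟩

/-- Quotients by normal `q`-subgroups. -/
theorem quotient_cn_gen : Cfsg.IsCNGroup (G ⧸ R) := by
  by_cases hC : IsPGroup q (cc R)
  · exact quotient_cn hCN hR hR1 fun x hx1 hxq r hr hxr => by_contra fun hr1 =>
      hx1 (PBasic.eq_one_of_isPGroup_of_coprime hC (mem_cc_of_fix hCN hR hR1 hxq hr hr1 hxr) hxq)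
  intro g hg
  obtain ⟨y, rfl⟩ := QuotientGroup.mk_surjective g
  set π := QuotientGroup.mk' R
  by_cases hq : ∃ (r : ℕ) (x : G), r.Prime ∧ r ≠ q ∧ x ∉ R ∧ x ∈ Subgroup.zpowers y ∧
      ∃ k, orderOf x = r ^ k
  · obtain ⟨r, x, hr, hrq, hxR, hxy, k, hk⟩ := hq
    have hx1 : x ≠ 1 := fun e => hxR (e ▸ R.one_mem)
    have hxq : (orderOf x).Coprime q := by
      rw [hk]; exact ((Nat.coprime_primes hr Fact.out).mpr hrq).pow_left k
    have hle : Subgroup.centralizer ({(y : G ⧸ R)} : Set (G ⧸ R)) ≤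
        (Subgroup.centralizer ({x} : Set G)).map π := by
      intro h hh
      obtain ⟨h, rfl⟩ := QuotientGroup.mk_surjective h
      obtain ⟨n, rfl⟩ := Subgroup.mem_zpowers_iff.mp hxy
      have hc : Commute ((y ^ n : G) : G ⧸ R) (h : G ⧸ R) := by
        rw [QuotientGroup.mk_zpow]
        exact (show Commute (y : G ⧸ R) (h : G ⧸ R) from
          (Subgroup.mem_centralizer_singleton_iff.mp hh).symm).zpow_left n
      obtain ⟨s, hs, hcs⟩ := exists_lift hCN hR hR1 hxq (commute_mod_iff.mp hc)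
      exact ⟨s⁻¹ * h, Subgroup.mem_centralizer_singleton_iff.mpr hcs.eq.symm, by
        simp [π, (QuotientGroup.eq_one_iff s).mpr hs]⟩
    haveI : Group.IsNilpotent (Subgroup.centralizer ({x} : Set G)) := hCN x hx1
    exact nilpotent_of_le hle
      (Group.nilpotent_of_surjective (π.subgroupMap _) (MonoidHom.subgroupMap_surjective _ _))
  · push Not at hq
    have hyR : y ∉ R := fun h => hg ((QuotientGroup.eq_one_iff y).mpr h)
    obtain ⟨k, hk⟩ : ∃ k, orderOf y = q ^ k :=
      ⟨_, Nat.eq_prime_pow_of_unique_prime_dvd (orderOf_pos y).ne' fun {d} hd hdd => by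
        by_contra hne
        haveI := Fact.mk hd
        obtain ⟨z, hz⟩ := exists_prime_orderOf_dvd_card' (G := Subgroup.zpowers y) d
          (by rwa [Nat.card_zpowers])
        refine hq d z hd hne (fun e => ?_) z.2 1 (by rw [pow_one, Subgroup.orderOf_coe]; exact hz)
        obtain ⟨i, hi⟩ := IsPGroup.iff_orderOf.mp hR ⟨(z : G), e⟩
        rw [Subgroup.orderOf_mk, Subgroup.orderOf_coe, hz] at hi
        exact hne ((Nat.prime_dvd_prime_iff_eq hd Fact.out).mp
          (hd.dvd_of_dvd_pow (show d ∣ q ^ i from dvd_of_eq hi)))⟩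
    haveI : (Cfsg.fittingSubgroup G).Normal := FittingCores.fitting_normal
    haveI : Group.IsNilpotent (Cfsg.fittingSubgroup G) := FittingCores.fitting_nilpotent
    refine nilpotent_of_le ?_ (Group.nilpotent_of_surjective (π.subgroupMap
      (Cfsg.fittingSubgroup G)) (MonoidHom.subgroupMap_surjective _ _))
    intro h hh
    obtain ⟨h, rfl⟩ := QuotientGroup.mk_surjective h
    refine Subgroup.mem_map_of_mem π (mem_of_primePow _ h fun r x hr hxh hxo => ?_)
    obtain ⟨j, hj⟩ := hxo
    by_cases hrq : r = q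
    · subst hrq
      exact FittingCores.pCore_le_fitting hr (mem_pCore_of_not_pGroup hCN hR hR1 hC ⟨j, hj⟩)
    · refine FittingCores.le_fitting (cc_normal R) (cc_nilpotent hCN hR hR1) ?_
      have hxq : (orderOf x).Coprime q := by
        rw [hj]; exact ((Nat.coprime_primes hr Fact.out).mpr hrq).pow_left j
      by_contra hxc
      obtain ⟨n, rfl⟩ := Subgroup.mem_zpowers_iff.mp hxh
      have hc : Commute ((h ^ n : G) : G ⧸ R) (y : G ⧸ R) := by
        rw [QuotientGroup.mk_zpow]
        exact (show Commute (h : G ⧸ R) (y : G ⧸ R) from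
          Subgroup.mem_centralizer_singleton_iff.mp hh).zpow_left n
      obtain ⟨s, hs, hcs⟩ := exists_lift hCN hR hR1 hxq (commute_mod_iff.mp hc)
      have hv1 : s⁻¹ * y ≠ 1 := fun e => hyR (inv_mul_eq_one.mp e ▸ hs)
      have hYp : IsPGroup q (Subgroup.zpowers y ⊔ R : Subgroup G) :=
        IsPGroup.to_sup_of_normal_right (IsPGroup.of_card (n := k) (by rw [Nat.card_zpowers, hk])) hR
      obtain ⟨i, hi⟩ := IsPGroup.iff_orderOf.mp hYp ⟨s⁻¹ * y, Subgroup.mul_mem _
        (Subgroup.mem_sup_right (R.inv_mem hs)) (Subgroup.mem_sup_left (Subgroup.mem_zpowers y))⟩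
      rw [Subgroup.orderOf_mk] at hi
      obtain ⟨z, hz, hz1, hvz⟩ := exists_fixed hR hR1 ⟨i, hi⟩
      obtain ⟨l, hl⟩ := IsPGroup.iff_orderOf.mp hR ⟨z, hz.1⟩
      rw [Subgroup.orderOf_mk] at hl
      exact hxc (mem_cc_of_fix hCN hR hR1 hxq hz.1 hz1
        (commute_of_common hCN hv1 hcs.symm hvz (hl ▸ hxq.pow_right l)))

omit hCN hR hR1 in
/-- Quotients by solvable normal subgroups. -/
theorem quotient_solvable : ∀ (n : ℕ) (G : Type u) [Group G] [Finite G], Nat.card G = n →
    Cfsg.IsCNGroup G → ∀ (H : Subgroup G) [H.Normal], Group.IsSolvable H →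
      Cfsg.IsCNGroup (G ⧸ H) := by
  intro n
  induction n using Nat.strong_induction_on with
  | _ n IH =>
    intro G _ _ hn hCN H hHn hH
    subst hn
    haveI := hH
    by_cases hH1 : H = ⊥
    · exact cn_of_mulEquiv ((QuotientGroup.quotientMulEquivOfEq hH1).trans QuotientGroup.quotientBot)
        hCN
    have hF : Cfsg.fittingSubgroup H ≠ ⊥ := by
      intro hF
      have := FittingCores.centralizer_fitting_le (G := H)
      rw [hF] at this
      have htop : (⊤ : Subgroup H) ≤ ⊥ := fun x _ => this (by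
        intro y hy
        rw [SetLike.mem_coe, Subgroup.mem_bot] at hy
        subst hy; simp)
      haveI : Nontrivial H := (Subgroup.nontrivial_iff_ne_bot H).mpr hH1
      exact top_ne_bot (le_bot_iff.mp htop)
    haveI : Group.IsNilpotent (Cfsg.fittingSubgroup H) := FittingCores.fitting_nilpotent
    obtain ⟨q, hq, hqd⟩ := Nat.exists_prime_and_dvd (fun h => hF (Subgroup.card_eq_one.mp h))
    haveI := Fact.mk hq
    obtain ⟨S⟩ : Nonempty (Sylow q (Cfsg.fittingSubgroup H)) := inferInstance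
    set R := (Cfsg.pCore q H).map H.subtype with hR
    haveI : R.Normal := FittingCores.normal_map_of_characteristic hHn (PBasic.pCore_characteristic q _)
    have hRp : IsPGroup q R := (PBasic.pCore_isPGroup q _).map _
    have hR1 : R ≠ ⊥ := by
      rw [hR, Ne, Subgroup.map_eq_bot_iff_of_injective _ H.subtype_injective]
      intro h
      have h2 := FittingCores.sylow_le_pCore_of_nilpotent
        (FittingCores.fitting_normal (G := H)) q S
      rw [h, le_bot_iff,
        Subgroup.map_eq_bot_iff_of_injective _ (Subgroup.subtype_injective _)] at h2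
      exact S.ne_bot_of_dvd_card hqd h2
    have hRH : R ≤ H := Subgroup.map_subtype_le _
    have hlt : Nat.card (G ⧸ R) < Nat.card G := by
      have h1 : 1 < Nat.card R := by rw [Subgroup.one_lt_card_iff_ne_bot]; exact hR1
      rw [Subgroup.card_eq_card_quotient_mul_card_subgroup R]
      exact (lt_mul_iff_one_lt_right Nat.card_pos).mpr h1
    haveI : Group.IsSolvable (H.map (QuotientGroup.mk' R)) :=
      Group.isSolvable_of_surjective (f := (QuotientGroup.mk' R).subgroupMap H)
        (MonoidHom.subgroupMap_surjective _ _)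
    exact cn_of_mulEquiv (QuotientGroup.quotientQuotientEquivQuotient R H hRH).symm
      (IH _ hlt (G ⧸ R) rfl (quotient_cn_gen hCN hRp hR1) (H.map (QuotientGroup.mk' R)) ‹_›)

end Cfsg.Agent.CN
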