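import Cfsg.Agent.Lib.CN.Main
import Cfsg.Prelude.Def_OddOrder

/-!
# There is no minimal simple CN group of odd order
-/

set_option autoImplicit false

namespace Cfsg.Agent.CN

universe u

theorem no_minimal_simple {G : Type u} [Group G] [Finite G] (hG : Cfsg.IsMinSimpleOddOrder G)
    (hCN : Cfsg.IsCNGroup G) : False := by
  obtain ⟨hodd, hsimple, hna, -⟩ := hG
  haveI := hsimple
  exact hna (IsMulCommutative.of_comm
    (IsSimpleGroup.comm_iff_isSolvable.mpr (solvable (Nat.card G) G rfl hodd hCN)))

end Cfsg.Agent.CN
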