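import Cfsg.Agent.Lib.CN.General

/-!
# CN groups with a normal Sylow subgroup; maximal nilpotent subgroups
-/

set_option autoImplicit false
set_option linter.style.haveILetI false
set_option linter.unusedSectionVars false

open scoped Pointwise

namespace Cfsg.Agent.CN

universe u

variable {G : Type u} [Group G] [Finite G]

theorem mem_sylow_nilpotent {L : Subgroup G} (hL : Group.IsNilpotent L) {p : ℕ} [Fact p.Prime]
    (P : Sylow p G) (hPL : (P : Subgroup G) ≤ L) {w : G} (hw : w ∈ L)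
    (hwp : ∃ k, orderOf w = p ^ k) : w ∈ P := by
  obtain ⟨k, hk⟩ := hwp
  haveI := hL
  haveI : ((P.subtype hPL : Sylow p L) : Subgroup L).Normal := inferInstance
  obtain ⟨S, hS⟩ := (IsPGroup.of_card (n := k) (by
    rw [Nat.card_zpowers, Subgroup.orderOf_mk, hk]) :
      IsPGroup p (Subgroup.zpowers (⟨w, hw⟩ : L))).exists_le_sylow
  haveI := Sylow.unique_of_normal (P.subtype hPL) ‹_›
  have := hS (Subgroup.mem_zpowers _)
  rw [Subsingleton.elim S (P.subtype hPL)] at this
  exact this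

theorem prime_dvd_of_pow {x : G} {r k : ℕ} (hx1 : x ≠ 1) (hx : orderOf x = r ^ k) {K : Subgroup G}
    (hxK : x ∈ K) : r ∣ Nat.card K := by
  rcases Nat.eq_zero_or_pos k with rfl | hk
  · rw [pow_zero, orderOf_eq_one_iff] at hx; exact absurd hx hx1
  · exact (dvd_pow_self r hk.ne').trans (hx ▸ Subgroup.orderOf_dvd_natCard K hxK)

section normalSylow

variable (hCN : Cfsg.IsCNGroup G) {p : ℕ} [Fact p.Prime] (P : Sylow p G)
  (hP1 : (P : Subgroup G) ≠ ⊥) [(P : Subgroup G).Normal]
include hCN hP1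

theorem mem_sylow_of_normal {w : G} (hw : ∃ k, orderOf w = p ^ k) : w ∈ P := by
  obtain ⟨k, hk⟩ := hw
  obtain ⟨S, hS⟩ := (IsPGroup.of_card (n := k) (by rw [Nat.card_zpowers, hk]) :
    IsPGroup p (Subgroup.zpowers w)).exists_le_sylow
  haveI := Sylow.unique_of_normal P ‹_›
  rw [Subsingleton.elim S P] at hS
  exact hS (Subgroup.mem_zpowers w)

/-- Sylow subgroups for other primes meeting `cc P` lie in it. -/
theorem sylow_le_cc {t : ℕ} [Fact t.Prime] (htp : t ≠ p) (T : Sylow t G) {y : G} (hyT : y ∈ T)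
    (hy1 : y ≠ 1) (hy : y ∈ cc (P : Subgroup G)) : (T : Subgroup G) ≤ cc (P : Subgroup G) := by
  obtain ⟨⟨z, hzT, hzc⟩, hz1⟩ := Subgroup.ne_bot_iff_exists_ne_one.1 (exists_center_inf T.isPGroup'
    (fun h => hy1 (Subgroup.mem_bot.mp (h ▸ hyT))))
  have hz1' : z ≠ 1 := fun e => hz1 (Subtype.ext e)
  have hpos : ∀ {s : G}, s ∈ T → (orderOf s).Coprime p := fun hs => by
    obtain ⟨k, hk⟩ := exists_pow_of_pgroup T.isPGroup' hs
    rw [hk]; exact ((Nat.coprime_primes Fact.out Fact.out).mpr htp).pow_left k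
  intro s hs
  have hyP : ∀ r ∈ (P : Subgroup G), Commute y r := fun r hr =>
    commute_of_mem_cc hCN P.isPGroup' hP1 hy (hpos hyT) hr
  intro w hw
  obtain ⟨l, hl⟩ := exists_pow_of_pgroup P.isPGroup' hw.1
  have h1 : Commute w z := commute_of_common hCN hy1 (hyP w hw.1) (hzc y hyT)
    (hl ▸ ((hpos hzT).pow_right l).symm)
  exact (commute_of_common hCN hz1' h1.symm ((hzc s hs).symm)
    (hl ▸ ((hpos hs).pow_right l).symm)).eq
where
  exists_pow_of_pgroup {q : ℕ} {H : Subgroup G} (hH : IsPGroup q H) [Fact q.Prime] {v : G}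
      (hv : v ∈ H) : ∃ k, orderOf v = q ^ k := by
    obtain ⟨k, hk⟩ := IsPGroup.iff_orderOf.mp hH ⟨v, hv⟩
    exact ⟨k, by rw [← hk, Subgroup.orderOf_mk]⟩

theorem cc_hall : Nat.Coprime (Nat.card (cc (P : Subgroup G))) (cc (P : Subgroup G)).index := by
  refine Nat.coprime_of_dvd fun t ht h1 h2 => ?_
  haveI := Fact.mk ht
  obtain ⟨y, hy⟩ := exists_prime_orderOf_dvd_card' (G := cc (P : Subgroup G)) t h1
  obtain ⟨T, hT⟩ := (IsPGroup.of_card (n := 1) (by
    rw [Nat.card_zpowers, Subgroup.orderOf_coe, hy, pow_one]) :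
      IsPGroup t (Subgroup.zpowers (y : G))).exists_le_sylow
  have hle : (T : Subgroup G) ≤ cc (P : Subgroup G) := by
    by_cases htp : t = p
    · subst htp
      intro w hw
      obtain ⟨k, hk⟩ := IsPGroup.iff_orderOf.mp T.isPGroup' ⟨w, hw⟩
      exact le_cc _ (mem_sylow_of_normal hCN P hP1 ⟨k, by rw [← hk, Subgroup.orderOf_mk]⟩)
    · refine sylow_le_cc hCN P hP1 htp T (hT (Subgroup.mem_zpowers _)) (fun e => ?_) y.2
      rw [OneMemClass.coe_eq_one] at e
      rw [e, orderOf_one] at hy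
      exact ht.ne_one hy.symm
  exact T.not_dvd_index (h2.trans (Subgroup.index_dvd_of_le hle))

theorem cc_fpf {e : G} (he1 : e ≠ 1)
    (hcop : (orderOf e).Coprime (Nat.card (cc (P : Subgroup G)))) {v : G}
    (hv : v ∈ cc (P : Subgroup G)) (hev : Commute e v) : v = 1 := by
  by_contra hv1
  obtain ⟨r, x, hr, hx1, hxe, k, hk⟩ := exists_prime_part he1
  haveI := Fact.mk hr
  have hxcop : (orderOf x).Coprime (Nat.card (cc (P : Subgroup G))) :=
    hcop.coprime_dvd_left (by
      rw [← Nat.card_zpowers x, ← Nat.card_zpowers e]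
      exact Subgroup.card_dvd_of_le (Subgroup.zpowers_le.mpr hxe))
  have hpd : p ∣ Nat.card (cc (P : Subgroup G)) := by
    obtain ⟨⟨w, hw⟩, hw1⟩ := Subgroup.ne_bot_iff_exists_ne_one.1 hP1
    obtain ⟨m, hm⟩ := IsPGroup.iff_orderOf.mp P.isPGroup' ⟨w, hw⟩
    rw [Subgroup.orderOf_mk] at hm
    exact prime_dvd_of_pow (fun e => hw1 (Subtype.ext e)) hm (le_cc _ hw)
  have hxp : (orderOf x).Coprime p := hxcop.coprime_dvd_right hpd
  have hxv : Commute x v := by
    obtain ⟨n, rfl⟩ := Subgroup.mem_zpowers_iff.mp hxe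
    exact hev.zpow_left n
  obtain ⟨⟨z, hzP, hzc⟩, hz1⟩ := Subgroup.ne_bot_iff_exists_ne_one.1
    (exists_center_inf P.isPGroup' hP1)
  have hz1' : z ≠ 1 := fun e => hz1 (Subtype.ext e)
  obtain ⟨l, hl⟩ := IsPGroup.iff_orderOf.mp P.isPGroup' ⟨z, hzP⟩
  rw [Subgroup.orderOf_mk] at hl
  have hxz : Commute x z := commute_of_common hCN hv1 hxv.symm (hv z ⟨hzP, hzc⟩).symm
    (hl ▸ hxp.pow_right l)
  have hxcc : x ∈ cc (P : Subgroup G) := mem_cc_of_fix hCN P.isPGroup' hP1 hxp hzP hz1' hxz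
  exact hx1 (orderOf_eq_one_iff.mp (Nat.eq_one_of_dvd_coprimes hxcop dvd_rfl
    (Subgroup.orderOf_dvd_natCard _ hxcc)))

theorem fittingHall_eq : Cfsg.fittingHall G = cc (P : Subgroup G) := by
  refine le_antisymm (sSup_le fun N ⟨hNn, hNnil, hNhall⟩ => ?_)
    (le_sSup ⟨cc_normal _, cc_nilpotent hCN P.isPGroup' hP1, cc_hall hCN P hP1⟩)
  intro n hn
  refine mem_of_primePow _ n fun r x hr hxn hxo => ?_
  have hxN : x ∈ N := Subgroup.zpowers_le.mpr hn hxn
  obtain ⟨k, hk⟩ := hxo
  by_cases hrp : r = p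
  · exact le_cc _ (mem_sylow_of_normal hCN P hP1 ⟨k, hrp ▸ hk⟩)
  intro z hz
  obtain ⟨l, hl⟩ := IsPGroup.iff_orderOf.mp P.isPGroup' ⟨z, hz.1⟩
  rw [Subgroup.orderOf_mk] at hl
  by_cases hpN : p ∣ Nat.card N
  · have hzN : z ∈ N := by
      haveI := hNn
      rw [← QuotientGroup.eq_one_iff, ← orderOf_eq_one_iff]
      refine Nat.eq_one_of_dvd_coprimes
        ((((Fact.out : p.Prime).coprime_iff_not_dvd).mpr ?_).pow_left l)
        (hl ▸ orderOf_map_dvd (QuotientGroup.mk' N) z) (orderOf_dvd_natCard _)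
      intro hd
      exact (Fact.out : p.Prime).not_dvd_one (hNhall ▸ Nat.dvd_gcd hpN hd)
    exact (commute_of_coprime hNnil hxN hzN (by
      rw [hk, hl]; exact ((Nat.coprime_primes hr Fact.out).mpr hrp).pow k l)).eq.symm
  · have hdis : Disjoint N (P : Subgroup G) := by
      rw [disjoint_iff, eq_bot_iff]
      intro w hw
      obtain ⟨m, hm⟩ := IsPGroup.iff_orderOf.mp P.isPGroup' ⟨w, hw.2⟩
      rw [Subgroup.orderOf_mk] at hm
      rw [Subgroup.mem_bot]
      by_contra hw1
      exact hpN (prime_dvd_of_pow hw1 hm hw.1)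
    exact (Subgroup.commute_of_normal_of_disjoint N (P : Subgroup G) hNn ‹_› hdis x z hxN hz.1).eq.symm

/-- The structure of a non-nilpotent CN group with a normal Sylow subgroup. -/
theorem normalSylow_structure (hnn : ¬ Group.IsNilpotent G) :
    Cfsg.fittingHall G ≠ ⊥ ∧ Cfsg.fittingHall G ≠ ⊤ ∧
      (∃ E : Subgroup G, Subgroup.IsComplement' (Cfsg.fittingHall G) E ∧
        Cfsg.IsFrobeniusComplement E ∧ Group.IsNilpotent E ∧
        ∀ e ∈ E, e ≠ 1 → Cfsg.fittingHall G ⊓ Subgroup.centralizer ({e} : Set G) = ⊥) ∧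
      Group.IsNilpotent (G ⧸ Cfsg.fittingHall G) := by
  have hF := fittingHall_eq hCN P hP1
  have hFn : Group.IsNilpotent (Cfsg.fittingHall G) := by
    rw [hF]; exact cc_nilpotent hCN P.isPGroup' hP1
  have hne : Cfsg.fittingHall G ≠ ⊥ := by
    rw [hF]
    exact fun h => hP1 (le_bot_iff.mp (h ▸ le_cc (P : Subgroup G)))
  have htop : Cfsg.fittingHall G ≠ ⊤ := by
    intro h
    apply hnn
    rw [h] at hFn
    haveI := hFn
    exact Group.nilpotent_of_mulEquiv Subgroup.topEquiv
  have hcop : Nat.Coprime (Nat.card (Cfsg.fittingHall G)) (Cfsg.fittingHall G).index := by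
    rw [hF]; exact cc_hall hCN P hP1
  obtain ⟨E, hE⟩ := Subgroup.exists_right_complement'_of_coprime hcop
  have hE1 : E ≠ ⊥ := fun h => htop (Subgroup.isComplement'_bot_right.mp (h ▸ hE))
  have hfpf : ∀ e ∈ E, e ≠ 1 → Cfsg.fittingHall G ⊓ Subgroup.centralizer ({e} : Set G) = ⊥ := by
    intro e he he1
    rw [eq_bot_iff]
    intro v hv
    rw [Subgroup.mem_bot]
    refine cc_fpf hCN P hP1 he1 ?_ (hF ▸ hv.1)
      (Subgroup.mem_centralizer_singleton_iff.mp hv.2).symm
    rw [← hF]
    exact (hE.symm.index_eq_card ▸ hcop).symm.coprime_dvd_left (Subgroup.orderOf_dvd_natCard E he)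
  have hEn : Group.IsNilpotent E := by
    obtain ⟨⟨⟨c, hcE⟩, hc⟩, hc1⟩ := Subgroup.ne_bot_iff_exists_ne_one.1
      (S0069.result (Cfsg.fittingHall G) E hE hne hE1 hfpf)
    refine nilpotent_of_le (fun x hx => ?_) (hCN c fun e => hc1 (Subtype.ext (Subtype.ext e)))
    exact Subgroup.mem_centralizer_singleton_iff.mpr
      (congrArg Subtype.val (Subgroup.mem_center_iff.mp hc ⟨x, hx⟩))
  refine ⟨hne, htop, ⟨E, hE, (S0039.result (Cfsg.fittingHall G) E hE hne hE1).mpr hfpf, hEn, hfpf⟩,
    ?_⟩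
  haveI := hEn
  refine Group.nilpotent_of_surjective ((QuotientGroup.mk' (Cfsg.fittingHall G)).comp E.subtype) ?_
  intro x
  obtain ⟨g, rfl⟩ := QuotientGroup.mk_surjective x
  obtain ⟨⟨n, e⟩, he⟩ := hE.2 g
  refine ⟨e, ?_⟩
  rw [← he]
  simp only [MonoidHom.comp_apply, Subgroup.coe_subtype, QuotientGroup.mk'_apply,
    QuotientGroup.mk_mul]
  rw [(QuotientGroup.eq_one_iff (n : G)).mpr n.2, one_mul]

end normalSylow

/-- Maximal nilpotent subgroups. -/
theorem maximal_nilpotent (hCN : Cfsg.IsCNGroup G) (H : Subgroup G) (hH : Group.IsNilpotent H)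
    (hmax : ∀ L : Subgroup G, Group.IsNilpotent L → H ≤ L → L = H) :
    (Nat.card H).Coprime H.index ∧
      (¬ IsPrimePow (Nat.card H) → Nat.card H ≠ 1 → ∀ g : G,
        H.map (MulAut.conj g).toMonoidHom ≠ H → H ⊓ H.map (MulAut.conj g).toMonoidHom = ⊥) ∧
      ((∀ g : G, H.map (MulAut.conj g).toMonoidHom ≠ H →
        H ⊓ H.map (MulAut.conj g).toMonoidHom = ⊥) →
          ∀ x ∈ H, x ≠ 1 → Subgroup.centralizer ({x} : Set G) ≤ H) := by
  haveI := hH
  by_cases hbot : H = ⊥
  · subst hbot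
    refine ⟨by simp, fun _ h => absurd (Subgroup.card_bot) h, fun _ x hx hx1 => ?_⟩
    exact absurd (Subgroup.mem_bot.mp hx) hx1
  obtain ⟨w, hwH, hw1, hwc⟩ : ∃ w ∈ H, w ≠ 1 ∧ H ≤ Subgroup.centralizer ({w} : Set G) := by
    haveI : Nontrivial H := (Subgroup.nontrivial_iff_ne_bot H).mpr hbot
    obtain ⟨⟨w, _, hwc⟩, hw1⟩ := Subgroup.ne_bot_iff_exists_ne_one.1
      (SolvStruct.inf_center_ne_bot (G := H) (N := ⊤) top_ne_bot)
    exact ⟨(w : G), w.2, fun e => hw1 (Subtype.ext (Subtype.ext e)), fun k hk =>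
      Subgroup.mem_centralizer_singleton_iff.mpr
        (congrArg Subtype.val (Subgroup.mem_center_iff.mp hwc ⟨k, hk⟩))⟩
  have hCw : Subgroup.centralizer ({w} : Set G) = H := hmax _ (hCN w hw1) hwc
  have hpow : ∀ {L : Subgroup G} {q : ℕ} [Fact q.Prime], IsPGroup q L → ∀ {v : G}, v ∈ L →
      ∃ k, orderOf v = q ^ k := fun {L q} _ hL {v} hv => by
    obtain ⟨k, hk⟩ := IsPGroup.iff_orderOf.mp hL ⟨v, hv⟩
    exact ⟨k, by rw [← hk, Subgroup.orderOf_mk]⟩
  have hsyl : ∀ t : ℕ, ∀ [Fact t.Prime], t ∣ Nat.card H →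
      ∃ T : Sylow t G, (T : Subgroup G) ≤ H := by
    intro t _ htd
    obtain ⟨Q⟩ : Nonempty (Sylow t H) := inferInstance
    have hQp : IsPGroup t ((Q : Subgroup H).map H.subtype) := Q.isPGroup'.map _
    obtain ⟨T, hT⟩ := hQp.exists_le_sylow
    refine ⟨T, ?_⟩
    obtain ⟨⟨x, hx⟩, hx1⟩ := Subgroup.ne_bot_iff_exists_ne_one.1 (Q.ne_bot_of_dvd_card htd)
    have hxT : (x : G) ∈ T := hT ⟨x, hx, rfl⟩
    have hx1' : (x : G) ≠ 1 := fun e => hx1 (Subtype.ext (Subtype.ext e))
    obtain ⟨⟨z, hzT, hzc⟩, hz1⟩ := Subgroup.ne_bot_iff_exists_ne_one.1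
      (exists_center_inf T.isPGroup' (fun h => hx1' (Subgroup.mem_bot.mp (h ▸ hxT))))
    obtain ⟨kz, hkz⟩ := hpow T.isPGroup' hzT
    obtain ⟨kx, hkx⟩ := hpow T.isPGroup' hxT
    have hzH : ∀ h ∈ H, Commute z h := by
      intro h hh
      suffices h ∈ Subgroup.centralizer ({z} : Set G) from
        (Subgroup.mem_centralizer_singleton_iff.mp this).symm
      refine mem_of_primePow _ h fun r y hr hyh hyo => ?_
      have hyH : y ∈ H := Subgroup.zpowers_le.mpr hh hyh
      obtain ⟨ky, hky⟩ := hyo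
      refine Subgroup.mem_centralizer_singleton_iff.mpr ?_
      haveI := Fact.mk hr
      by_cases hrt : r = t
      · subst hrt
        obtain ⟨S, hS⟩ := (IsPGroup.of_card (n := ky) (by
          rw [Nat.card_zpowers, Subgroup.orderOf_mk, hky]) :
            IsPGroup r (Subgroup.zpowers (⟨y, hyH⟩ : H))).exists_le_sylow
        haveI := Sylow.unique_of_normal Q inferInstance
        rw [Subsingleton.elim S Q] at hS
        exact hzc y (hT ⟨⟨y, hyH⟩, hS (Subgroup.mem_zpowers _), rfl⟩)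
      · have hxy : Commute (x : G) y := commute_of_coprime hH x.2 hyH (by
          rw [hkx, hky]; exact ((Nat.coprime_primes Fact.out hr).mpr (Ne.symm hrt)).pow kx ky)
        exact (commute_of_common hCN hx1' (hzc x hxT) hxy (by
          rw [hkz, hky]
          exact ((Nat.coprime_primes Fact.out hr).mpr (Ne.symm hrt)).pow kz ky)).eq.symm
    have hz1' : z ≠ 1 := fun e => hz1 (Subtype.ext e)
    have hCz : Subgroup.centralizer ({z} : Set G) = H := hmax _ (hCN z hz1') fun h hh =>
      Subgroup.mem_centralizer_singleton_iff.mpr (hzH h hh).eq.symm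
    intro s hs
    rw [← hCz]
    exact Subgroup.mem_centralizer_singleton_iff.mpr (hzc s hs)
  refine ⟨Nat.coprime_of_dvd fun t ht h1 h2 => ?_, ?_, ?_⟩
  · haveI := Fact.mk ht
    obtain ⟨T, hT⟩ := hsyl t h1
    exact T.not_dvd_index (h2.trans (Subgroup.index_dvd_of_le hT))
  · intro hnp _ g hne
    by_contra hint
    apply hne
    obtain ⟨⟨x₀, hx₀⟩, hx₀1⟩ := Subgroup.ne_bot_iff_exists_ne_one.1 hint
    obtain ⟨t, x, ht, hx1, hxx, j, hj⟩ :=
      exists_prime_part (g := x₀) (fun e => hx₀1 (Subtype.ext e))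
    set H' := H.map (MulAut.conj g).toMonoidHom with hH'
    have hH'n : Group.IsNilpotent H' :=
      Group.nilpotent_of_surjective ((MulAut.conj g).toMonoidHom.subgroupMap H)
        (MonoidHom.subgroupMap_surjective _ _)
    have hxH : x ∈ H := Subgroup.zpowers_le.mpr hx₀.1 hxx
    have hxH' : x ∈ H' := Subgroup.zpowers_le.mpr hx₀.2 hxx
    have hcard : Nat.card H' = Nat.card H :=
      Subgroup.card_map_of_injective (f := (MulAut.conj g).toMonoidHom) (MulAut.conj g).injective
    haveI := Fact.mk ht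
    -- the parts prime to `t` agree
    have hS' : ∀ s : ℕ, s.Prime → s ≠ t → ∀ v : G, v ∈ H' → (∃ k, orderOf v = s ^ k) → v ∈ H := by
      intro s hs hst v hv hvo
      obtain ⟨k, hk⟩ := hvo
      by_cases hv1 : v = 1
      · rw [hv1]; exact H.one_mem
      haveI := Fact.mk hs
      obtain ⟨T, hT⟩ := hsyl s (hcard ▸ prime_dvd_of_pow hv1 hk hv)
      refine hT (mem_sylow_nilpotent (hCN x hx1) T (fun a ha => ?_)
        (Subgroup.mem_centralizer_singleton_iff.mpr (commute_of_coprime hH'n hv hxH' (by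
          rw [hk, hj]; exact ((Nat.coprime_primes hs ht).mpr hst).pow k j)).eq) ⟨k, hk⟩)
      obtain ⟨m, hm⟩ := hpow T.isPGroup' ha
      exact Subgroup.mem_centralizer_singleton_iff.mpr (commute_of_coprime hH (hT ha) hxH (by
        rw [hm, hj]; exact ((Nat.coprime_primes hs ht).mpr hst).pow m j)).eq
    -- another prime
    obtain ⟨s, hs, hsd, hst⟩ : ∃ s, s.Prime ∧ s ∣ Nat.card H ∧ s ≠ t := by
      by_contra hcon
      push Not at hcon
      apply hnp
      have e := Nat.eq_prime_pow_of_unique_prime_dvd (n := Nat.card H) Nat.card_pos.ne'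
        fun {d} hd hdd => hcon d hd hdd
      refine (isPrimePow_nat_iff _).mpr ⟨t, (Nat.card H).primeFactorsList.length, ht, ?_, e.symm⟩
      refine Nat.pos_of_ne_zero fun h0 => ?_
      rw [h0, pow_zero] at e
      exact hbot (Subgroup.card_eq_one.mp e)
    haveI := Fact.mk hs
    obtain ⟨v, hv⟩ := exists_prime_orderOf_dvd_card' (G := H') s (hcard.symm ▸ hsd)
    have hv1 : (v : G) ≠ 1 := fun e => by
      rw [OneMemClass.coe_eq_one] at e
      rw [e, orderOf_one] at hv
      exact hs.ne_one hv.symm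
    have hvo : orderOf (v : G) = s ^ 1 := by rw [pow_one, Subgroup.orderOf_coe]; exact hv
    have hvH : (v : G) ∈ H := hS' s hs hst v v.2 ⟨1, hvo⟩
    obtain ⟨T, hT⟩ := hsyl t (prime_dvd_of_pow hx1 hj hxH)
    have hTv : (T : Subgroup G) ≤ Subgroup.centralizer ({(v : G)} : Set G) := fun a ha => by
      obtain ⟨m, hm⟩ := hpow T.isPGroup' ha
      exact Subgroup.mem_centralizer_singleton_iff.mpr (commute_of_coprime hH (hT ha) hvH (by
        rw [hm, hvo]; exact ((Nat.coprime_primes ht hs).mpr (Ne.symm hst)).pow m 1)).eq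
    refine Subgroup.eq_of_le_of_card_ge (fun a ha => mem_of_primePow H a fun r y hr hya hyo => ?_)
      hcard.ge
    have hyH' : y ∈ H' := Subgroup.zpowers_le.mpr ha hya
    by_cases hrt : r = t
    · subst hrt
      obtain ⟨m, hm⟩ := hyo
      exact hT (mem_sylow_nilpotent (hCN v hv1) T hTv (Subgroup.mem_centralizer_singleton_iff.mpr
        (commute_of_coprime hH'n hyH' v.2 (by
          rw [hm, hvo]; exact ((Nat.coprime_primes ht hs).mpr (Ne.symm hst)).pow m 1)).eq) ⟨m, hm⟩)
    · exact hS' r hr hrt y hyH' hyo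
  · intro hTI x hx hx1 c hc
    have hcn : c ∈ Subgroup.normalizer (H : Set G) := by
      have hxc : x ∈ H.map (MulAut.conj c).toMonoidHom := ⟨x, hx, by
        simp only [MulEquiv.coe_toMonoidHom, MulAut.conj_apply]
        rw [Subgroup.mem_centralizer_singleton_iff.mp hc, mul_inv_cancel_right]⟩
      have e : H.map (MulAut.conj c).toMonoidHom = H := by
        by_contra hne
        exact hx1 (Subgroup.mem_bot.mp (hTI c hne ▸ ⟨hx, hxc⟩))
      refine Subgroup.mem_normalizer_iff.mpr fun a => ⟨fun ha => e ▸ ⟨a, ha, rfl⟩, fun ha => ?_⟩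
      rw [← e] at ha
      obtain ⟨b, hb, h⟩ := ha
      simpa [(MulAut.conj c).injective (show MulAut.conj c b = MulAut.conj c a from h)] using hb
    refine mem_of_primePow H c fun s y hs hyc hyo => ?_
    obtain ⟨k, hk⟩ := hyo
    have hyx : Commute y x := by
      obtain ⟨n, rfl⟩ := Subgroup.mem_zpowers_iff.mp hyc
      exact (show Commute c x from Subgroup.mem_centralizer_singleton_iff.mp hc).zpow_left n
    have hyN : y ∈ Subgroup.normalizer (H : Set G) := Subgroup.zpowers_le.mpr hcn hyc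
    haveI := Fact.mk hs
    by_cases hsH : IsPGroup s H
    · have hsd : s ∣ Nat.card H := by
        obtain ⟨m, hm⟩ := hpow hsH hx
        exact prime_dvd_of_pow hx1 hm hx
      obtain ⟨T, hT⟩ := hsyl s hsd
      have hsup : IsPGroup s (Subgroup.zpowers y ⊔ H : Subgroup G) :=
        IsPGroup.to_sup_of_normal_right' (IsPGroup.of_card (n := k) (by rw [Nat.card_zpowers, hk]))
          hsH (Subgroup.zpowers_le.mpr hyN)
      have := T.is_maximal' hsup (hT.trans le_sup_right)
      exact hT (this ▸ Subgroup.mem_sup_left (Subgroup.mem_zpowers y))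
    · rw [← hCw]
      refine Subgroup.mem_centralizer_singleton_iff.mpr ?_
      -- split `w` into prime power parts
      suffices w ∈ Subgroup.centralizer ({y} : Set G) from
        (Subgroup.mem_centralizer_singleton_iff.mp this).symm
      refine mem_of_primePow _ w fun r u hr huw huo => ?_
      obtain ⟨m, hm⟩ := huo
      have huH : u ∈ H := Subgroup.zpowers_le.mpr hwH huw
      have hux : Commute u x := by
        obtain ⟨n, rfl⟩ := Subgroup.mem_zpowers_iff.mp huw
        exact (show Commute w x from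
          (Subgroup.mem_centralizer_singleton_iff.mp (hwc hx)).symm).zpow_left n
      refine Subgroup.mem_centralizer_singleton_iff.mpr ?_
      by_cases hrs : r = s
      · subst hrs
        obtain ⟨d, hd, hdd, hds⟩ : ∃ d, d.Prime ∧ d ∣ Nat.card H ∧ d ≠ r := by
          by_contra hcon
          push Not at hcon
          exact hsH (IsPGroup.of_card (n := (Nat.card H).primeFactorsList.length)
            (Nat.eq_prime_pow_of_unique_prime_dvd Nat.card_pos.ne' fun {d} hd hdd => hcon d hd hdd))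
        haveI := Fact.mk hd
        obtain ⟨T, hT⟩ := hsyl d hdd
        obtain ⟨⟨v, hvT, hvc⟩, hv1⟩ := Subgroup.ne_bot_iff_exists_ne_one.1
          (exists_center_inf T.isPGroup'
            (T.ne_bot_of_dvd_card (hdd.trans (Subgroup.card_subgroup_dvd_card H))))
        obtain ⟨i, hi⟩ := hpow T.isPGroup' hvT
        have hvH : v ∈ H := hT hvT
        have hvcen : H ≤ Subgroup.centralizer ({v} : Set G) := fun h hh =>
          mem_of_primePow _ h fun r' a hr' hah hao => by
            obtain ⟨l, hl⟩ := hao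
            refine Subgroup.mem_centralizer_singleton_iff.mpr ?_
            haveI := Fact.mk hr'
            by_cases e : r' = d
            · subst e
              exact hvc a (mem_sylow_nilpotent hH T hT (Subgroup.zpowers_le.mpr hh hah) ⟨l, hl⟩)
            · exact (commute_of_coprime hH (Subgroup.zpowers_le.mpr hh hah) hvH
                (by rw [hl, hi]; exact ((Nat.coprime_primes hr' hd).mpr e).pow l i)).eq
        have hyv : Commute y v := commute_of_common hCN hx1 hyx.symm
          (show Commute x v from Subgroup.mem_centralizer_singleton_iff.mp (hvcen hx))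
          (by rw [hk, hi]; exact ((Nat.coprime_primes hs hd).mpr (Ne.symm hds)).pow k i)
        have hCv : Subgroup.centralizer ({v} : Set G) = H :=
          hmax _ (hCN v (fun e => hv1 (Subtype.ext e))) hvcen
        have hyH : y ∈ H := hCv ▸ Subgroup.mem_centralizer_singleton_iff.mpr hyv.eq
        have huc : Commute u w := by
          obtain ⟨n, rfl⟩ := Subgroup.mem_zpowers_iff.mp huw
          exact (Commute.refl w).zpow_left n
        have : Commute w y := (Subgroup.mem_centralizer_singleton_iff.mp (hwc hyH)).symm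
        obtain ⟨n, rfl⟩ := Subgroup.mem_zpowers_iff.mp huw
        exact (this.zpow_left n).eq
      · exact (commute_of_common hCN hx1 hux.symm hyx.symm
          (by rw [hm, hk]; exact ((Nat.coprime_primes hr hs).mpr hrs).pow m k)).eq

end Cfsg.Agent.CN
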