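import Cfsg.Agent.Lib.CN.Basic
import Cfsg.Agent.Lib.CN.FpfAut
import Cfsg.Agent.Lib.Solvable.Basic
import Cfsg.Agent.Lib.Solvable.Structure
import Cfsg.Agent.Lib.Transfer.Basic
import Cfsg.Prelude.Def_Solvable

/-!
# A group of odd order with nilpotent centralisers and a nontrivial normal `q`-subgroup
-/

set_option autoImplicit false
set_option linter.style.haveILetI false
set_option linter.unusedSectionVars false

namespace Cfsg.Agent.CN

universe u

variable {G : Type u} [Group G] [Finite G]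

/-- If `x` centralises no nontrivial element of `N`, an element commuting with `x` modulo `N` can
be moved into the centraliser of `x`. -/
theorem exists_lift_commute {N : Subgroup G} {x y : G}
    (hx : x ∈ Subgroup.normalizer (N : Set G)) (hfix : ∀ r ∈ N, Commute x r → r = 1)
    (hxy : x * y * x⁻¹ * y⁻¹ ∈ N) : ∃ r ∈ N, Commute x (r⁻¹ * y) := by
  let f : N → N := fun r => ⟨x * r * x⁻¹ * (r : G)⁻¹,
    N.mul_mem ((Subgroup.mem_normalizer_iff.mp hx _).mp r.2) (N.inv_mem r.2)⟩
  have hinj : Function.Injective f := by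
    intro r s h
    have h' : x * r * x⁻¹ * (r : G)⁻¹ = x * s * x⁻¹ * (s : G)⁻¹ := congrArg Subtype.val h
    have h3 : x * (r : G) * x⁻¹ = x * s * x⁻¹ * (s : G)⁻¹ * r := by
      rw [← h', inv_mul_cancel_right]
    have h4 : Commute x ((s : G)⁻¹ * r) := by
      show x * ((s : G)⁻¹ * r) = (s : G)⁻¹ * r * x
      calc x * ((s : G)⁻¹ * r) = (x * s * x⁻¹)⁻¹ * (x * r * x⁻¹) * x := by group
        _ = (x * s * x⁻¹)⁻¹ * (x * s * x⁻¹ * (s : G)⁻¹ * r) * x := by rw [h3]
        _ = (s : G)⁻¹ * r * x := by group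
    exact Subtype.ext (inv_mul_eq_one.mp (hfix _ (N.mul_mem (N.inv_mem s.2) r.2) h4)).symm
  obtain ⟨r, hr⟩ := (Finite.injective_iff_surjective.mp hinj) ⟨_, hxy⟩
  have h' : x * r * x⁻¹ * (r : G)⁻¹ = x * y * x⁻¹ * y⁻¹ := congrArg Subtype.val hr
  refine ⟨r, r.2, ?_⟩
  show x * ((r : G)⁻¹ * y) = (r : G)⁻¹ * y * x
  calc x * ((r : G)⁻¹ * y)
      = (r : G)⁻¹ * (x * r * x⁻¹ * (r : G)⁻¹)⁻¹ * (x * y * x⁻¹ * y⁻¹) * y * x := by group
    _ = _ := by rw [h']; group

theorem commute_mod_iff {N : Subgroup G} [N.Normal] {x y : G} :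
    Commute (x : G ⧸ N) (y : G ⧸ N) ↔ x * y * x⁻¹ * y⁻¹ ∈ N := by
  rw [← QuotientGroup.eq_one_iff]
  simp only [QuotientGroup.mk_mul, QuotientGroup.mk_inv]
  rw [mul_inv_eq_one, mul_inv_eq_iff_eq_mul]
  rfl

theorem exists_center_inf {R : Subgroup G} {q : ℕ} [Fact q.Prime] (hR : IsPGroup q R) (hR1 : R ≠ ⊥) :
    R ⊓ Subgroup.centralizer (R : Set G) ≠ ⊥ := by
  haveI : Nontrivial R := (Subgroup.nontrivial_iff_ne_bot R).mpr hR1
  haveI := hR.center_nontrivial
  obtain ⟨z, hz⟩ := exists_ne (1 : Subgroup.center R)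
  refine fun h => hz (Subtype.ext (Subtype.ext (Subgroup.mem_bot.mp
    (h ▸ ⟨(z : R).2, fun y hy => ?_⟩ : ((z : R) : G) ∈ (⊥ : Subgroup G)))))
  exact congrArg Subtype.val (Subgroup.mem_center_iff.mp z.2 ⟨y, hy⟩)

/-- An element of a `q`-group containing the normal subgroup `R` fixes a point of `Z(R)`. -/
theorem exists_fixed {R : Subgroup G} [R.Normal] {q : ℕ} [Fact q.Prime] (hR : IsPGroup q R)
    (hR1 : R ≠ ⊥) {v : G} (hv : ∃ k, orderOf v = q ^ k) :
    ∃ z ∈ R ⊓ Subgroup.centralizer (R : Set G), z ≠ 1 ∧ Commute v z := by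
  set Z := R ⊓ Subgroup.centralizer (R : Set G)
  set Y := Subgroup.zpowers v ⊔ R with hY
  have hYp : IsPGroup q Y := by
    obtain ⟨k, hk⟩ := hv
    exact IsPGroup.to_sup_of_normal_right (IsPGroup.of_card (n := k) (by rw [Nat.card_zpowers, hk]))
      hR
  haveI : Group.IsNilpotent Y := hYp.isNilpotent
  haveI : Z.Normal := inferInstance
  have hne : Z.subgroupOf Y ≠ ⊥ := by
    intro h
    rw [Subgroup.subgroupOf_eq_bot] at h
    exact exists_center_inf hR hR1 (disjoint_self.mp (h.mono_right (inf_le_left.trans le_sup_right)))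
  obtain ⟨⟨w, hwZ, hwc⟩, hw1⟩ :=
    Subgroup.ne_bot_iff_exists_ne_one.1 (SolvStruct.inf_center_ne_bot hne)
  refine ⟨(w : G), hwZ, fun h => hw1 (Subtype.ext (Subtype.ext h)), ?_⟩
  exact congrArg Subtype.val
    (Subgroup.mem_center_iff.mp hwc ⟨v, Subgroup.mem_sup_left (Subgroup.mem_zpowers v)⟩)

variable (hCN : Cfsg.IsCNGroup G)
include hCN

/-- The quotient by a normal `q`-subgroup on which all `q'`-elements act fixed point freely. -/
theorem quotient_cn {R : Subgroup G} [R.Normal] {q : ℕ} [Fact q.Prime] (hR : IsPGroup q R)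
    (hR1 : R ≠ ⊥)
    (hfix : ∀ x : G, x ≠ 1 → (orderOf x).Coprime q → ∀ r ∈ R, Commute x r → r = 1) :
    Cfsg.IsCNGroup (G ⧸ R) := by
  intro g hg
  obtain ⟨y, rfl⟩ := QuotientGroup.mk_surjective g
  set π := QuotientGroup.mk' R
  have hout : ∀ {x : G}, x ∈ R → (orderOf x).Coprime q → x = 1 := fun hx hxq =>
    PBasic.eq_one_of_isPGroup_of_coprime hR hx hxq
  by_cases hq : ∃ (r : ℕ) (x : G), r.Prime ∧ r ≠ q ∧ x ≠ 1 ∧ x ∈ Subgroup.zpowers y ∧
      ∃ k, orderOf x = r ^ k
  · obtain ⟨r, x, hr, hrq, hx1, hxy, k, hk⟩ := hq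
    have hxq : (orderOf x).Coprime q := by
      rw [hk]; exact ((Nat.coprime_primes hr Fact.out).mpr hrq).pow_left k
    have hle : Subgroup.centralizer ({(y : G ⧸ R)} : Set (G ⧸ R)) ≤
        (Subgroup.centralizer ({x} : Set G)).map π := by
      intro h hh
      obtain ⟨h, rfl⟩ := QuotientGroup.mk_surjective h
      obtain ⟨n, rfl⟩ := Subgroup.mem_zpowers_iff.mp hxy
      have hc : Commute ((y ^ n : G) : G ⧸ R) (h : G ⧸ R) := by
        rw [QuotientGroup.mk_zpow]
        exact (show Commute (y : G ⧸ R) (h : G ⧸ R) from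
          (Subgroup.mem_centralizer_singleton_iff.mp hh).symm).zpow_left n
      obtain ⟨s, hs, hcs⟩ := exists_lift_commute
        (N := R) (by rw [Subgroup.normalizer_eq_top]; exact Subgroup.mem_top _)
        (hfix _ hx1 hxq) (commute_mod_iff.mp hc)
      exact ⟨s⁻¹ * h, Subgroup.mem_centralizer_singleton_iff.mpr hcs.eq.symm, by
        simp [π, (QuotientGroup.eq_one_iff s).mpr hs]⟩
    haveI : Group.IsNilpotent (Subgroup.centralizer ({x} : Set G)) := hCN x hx1
    haveI : Group.IsNilpotent ((Subgroup.centralizer ({x} : Set G)).map π) :=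
      Group.nilpotent_of_surjective (π.subgroupMap _) (MonoidHom.subgroupMap_surjective _ _)
    refine Subgroup.isNilpotent_of_ker_le_center (Subgroup.inclusion hle) ?_
    rw [(MonoidHom.ker_eq_bot_iff _).mpr (Subgroup.inclusion_injective hle)]
    exact bot_le
  · push Not at hq
    have hyR : y ∉ R := fun h => hg ((QuotientGroup.eq_one_iff y).mpr h)
    obtain ⟨k, hk⟩ : ∃ k, orderOf y = q ^ k :=
      ⟨_, Nat.eq_prime_pow_of_unique_prime_dvd (orderOf_pos y).ne' fun {d} hd hdd => by
        by_contra hne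
        haveI := Fact.mk hd
        obtain ⟨z, hz⟩ := exists_prime_orderOf_dvd_card' (G := Subgroup.zpowers y) d
          (by rwa [Nat.card_zpowers])
        have := hq d z hd hne (fun e => by
          rw [OneMemClass.coe_eq_one] at e
          rw [e, orderOf_one] at hz
          exact hd.ne_one hz.symm) z.2 1
        exact this (by rw [pow_one, Subgroup.orderOf_coe]; exact hz)⟩
    suffices IsPGroup q (Subgroup.centralizer ({(y : G ⧸ R)} : Set (G ⧸ R))) from this.isNilpotent
    rintro ⟨h, hh⟩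
    obtain ⟨h, rfl⟩ := QuotientGroup.mk_surjective h
    suffices hpow : ∀ (r : ℕ) (x : G), r.Prime → r ≠ q → x ∈ Subgroup.zpowers h →
        (∃ k, orderOf x = r ^ k) → x = 1 by
      obtain ⟨m, hm⟩ : ∃ m, orderOf h = q ^ m :=
        ⟨_, Nat.eq_prime_pow_of_unique_prime_dvd (orderOf_pos h).ne' fun {d} hd hdd => by
          by_contra hne
          haveI := Fact.mk hd
          obtain ⟨z, hz⟩ := exists_prime_orderOf_dvd_card' (G := Subgroup.zpowers h) d
            (by rwa [Nat.card_zpowers])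
          have := hpow d z hd hne z.2 ⟨1, by rw [pow_one, Subgroup.orderOf_coe]; exact hz⟩
          rw [OneMemClass.coe_eq_one] at this
          rw [this, orderOf_one] at hz
          exact hd.ne_one hz.symm⟩
      refine ⟨m, Subtype.ext ?_⟩
      show (h : G ⧸ R) ^ q ^ m = 1
      rw [← QuotientGroup.mk_pow, ← hm, pow_orderOf_eq_one]
      rfl
    intro r x hr hrq hxh hxo
    by_contra hx1
    obtain ⟨n, rfl⟩ := Subgroup.mem_zpowers_iff.mp hxh
    obtain ⟨j, hj⟩ := hxo
    have hxq : (orderOf (h ^ n)).Coprime q := by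
      rw [hj]; exact ((Nat.coprime_primes hr Fact.out).mpr hrq).pow_left j
    have hc : Commute ((h ^ n : G) : G ⧸ R) (y : G ⧸ R) := by
      rw [QuotientGroup.mk_zpow]
      exact (show Commute (h : G ⧸ R) (y : G ⧸ R) from
        Subgroup.mem_centralizer_singleton_iff.mp hh).zpow_left n
    obtain ⟨s, hs, hcs⟩ := exists_lift_commute
      (N := R) (by rw [Subgroup.normalizer_eq_top]; exact Subgroup.mem_top _)
      (hfix _ hx1 hxq) (commute_mod_iff.mp hc)
    have hv1 : s⁻¹ * y ≠ 1 := fun e => hyR (inv_mul_eq_one.mp e ▸ hs)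
    have hvq : ∃ i, orderOf (s⁻¹ * y) = q ^ i := by
      have hYp : IsPGroup q (Subgroup.zpowers y ⊔ R : Subgroup G) :=
        IsPGroup.to_sup_of_normal_right (IsPGroup.of_card (n := k) (by rw [Nat.card_zpowers, hk]))
          hR
      obtain ⟨i, hi⟩ := IsPGroup.iff_orderOf.mp hYp ⟨s⁻¹ * y, Subgroup.mul_mem _
        (Subgroup.mem_sup_right (R.inv_mem hs)) (Subgroup.mem_sup_left (Subgroup.mem_zpowers y))⟩
      exact ⟨i, by rw [← hi, Subgroup.orderOf_mk]⟩
    obtain ⟨z, hz, hz1, hvz⟩ := exists_fixed hR hR1 hvq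
    obtain ⟨l, hl⟩ := IsPGroup.iff_orderOf.mp hR ⟨z, hz.1⟩
    rw [Subgroup.orderOf_mk] at hl
    exact hz1 (hfix _ hx1 hxq z hz.1 (commute_of_common hCN hv1 hcs.symm hvz
      (hl ▸ hxq.pow_right l)))

/-- A group of odd order with nilpotent centralisers and a nontrivial normal `q`-subgroup is
solvable once every smaller such group is. -/
theorem solvable_of_pCore (hodd : Odd (Nat.card G)) {q : ℕ} [Fact q.Prime]
    (hR1 : Cfsg.pCore q G ≠ ⊥)
    (IH : ∀ (K : Type u) [Group K] [Finite K], Nat.card K < Nat.card G → Odd (Nat.card K) →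
      Cfsg.IsCNGroup K → Group.IsSolvable K) : Group.IsSolvable G := by
  set R := Cfsg.pCore q G with hRdef
  have hR : IsPGroup q R := PBasic.pCore_isPGroup q G
  haveI : R.Normal := Cfsg.pCore_normal q G
  haveI : Group.IsNilpotent R := hR.isNilpotent
  set Z := R ⊓ Subgroup.centralizer (R : Set G) with hZ
  have hZ1 : Z ≠ ⊥ := exists_center_inf hR hR1
  set C := Subgroup.centralizer (Z : Set G) with hC
  haveI : C.Normal := inferInstance
  obtain ⟨⟨z₀, hz₀⟩, hz₀1⟩ := Subgroup.ne_bot_iff_exists_ne_one.1 hZ1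
  have hz₀' : z₀ ≠ 1 := fun h => hz₀1 (Subtype.ext h)
  have hCz : C ≤ Subgroup.centralizer ({z₀} : Set G) :=
    Subgroup.centralizer_le (by simpa using hz₀)
  haveI : Group.IsNilpotent (Subgroup.centralizer ({z₀} : Set G)) := hCN z₀ hz₀'
  haveI hCnil : Group.IsNilpotent C := by
    refine Subgroup.isNilpotent_of_ker_le_center (Subgroup.inclusion hCz) ?_
    rw [(MonoidHom.ker_eq_bot_iff _).mpr (Subgroup.inclusion_injective hCz)]
    exact bot_le
  have hRC : R ≤ C := fun r hr z hz => (hz.2 r hr).symm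
  by_cases hCq : IsPGroup q C
  · have hCR : C ≤ R := PBasic.le_pCore ‹C.Normal› hCq
    have hfix : ∀ x : G, x ≠ 1 → (orderOf x).Coprime q → ∀ r ∈ R, Commute x r → r = 1 := by
      intro x hx1 hxq r hr hxr
      by_contra hr1
      apply hx1
      refine PBasic.eq_one_of_isPGroup_of_coprime hR (hCR ?_) hxq
      intro z hz
      obtain ⟨l, hl⟩ := IsPGroup.iff_orderOf.mp hR ⟨z, hz.1⟩
      rw [Subgroup.orderOf_mk] at hl
      exact (commute_of_common hCN hr1 hxr.symm (hz.2 r hr)
        (hl ▸ hxq.pow_right l)).eq.symm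
    have hlt : Nat.card (G ⧸ R) < Nat.card G := by
      have h1 : 1 < Nat.card R := by
        rw [Subgroup.one_lt_card_iff_ne_bot]; exact hR1
      rw [Subgroup.card_eq_card_quotient_mul_card_subgroup R]
      exact (lt_mul_iff_one_lt_right Nat.card_pos).mpr h1
    haveI := IH (G ⧸ R) hlt (hodd.of_dvd_nat (Subgroup.card_quotient_dvd_card R))
      (quotient_cn hCN hR hR1 hfix)
    exact Group.isSolvable_of_ker_le_range R.subtype (QuotientGroup.mk' R) (by simp)
  · obtain ⟨t, r, hr, hrq, ht1, htC, j, hj⟩ : ∃ (t : G) (r : ℕ), r.Prime ∧ r ≠ q ∧ t ≠ 1 ∧ t ∈ C ∧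
        ∃ j, orderOf t = r ^ j := by
      by_contra hcon
      apply hCq
      rintro ⟨c, hc⟩
      refine ⟨_, Subtype.ext (orderOf_dvd_iff_pow_eq_one.mp (dvd_of_eq
        (Nat.eq_prime_pow_of_unique_prime_dvd (p := q) (orderOf_pos c).ne' fun {d} hd hdd => ?_)))⟩
      by_contra hne
      haveI := Fact.mk hd
      obtain ⟨z, hz⟩ := exists_prime_orderOf_dvd_card' (G := Subgroup.zpowers c) d
        (by rwa [Nat.card_zpowers])
      refine hcon ⟨z, d, hd, hne, fun e => ?_, Subgroup.zpowers_le.mpr hc z.2, 1,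
        by rw [pow_one, Subgroup.orderOf_coe]; exact hz⟩
      rw [OneMemClass.coe_eq_one] at e
      rw [e, orderOf_one] at hz
      exact hd.ne_one hz.symm
    have htq : (orderOf t).Coprime q := by
      rw [hj]; exact ((Nat.coprime_primes hr Fact.out).mpr hrq).pow_left j
    haveI := Fact.mk hr
    set T0 := Cfsg.pCore r C with hT0
    set T := T0.map C.subtype with hT
    have hTn : T.Normal := by
      haveI : T0.Characteristic := PBasic.pCore_characteristic r C
      infer_instance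
    have htT : t ∈ T := by
      obtain ⟨S, hS⟩ : ∃ S : Sylow r C, Subgroup.zpowers (⟨t, htC⟩ : C) ≤ (S : Subgroup C) :=
        (IsPGroup.of_card (n := j) (by
          rw [Nat.card_zpowers, Subgroup.orderOf_mk, hj])).exists_le_sylow
      haveI hSn : (S : Subgroup C).Normal := inferInstance
      exact ⟨⟨t, htC⟩, PBasic.le_pCore hSn S.isPGroup' (hS (Subgroup.mem_zpowers _)), rfl⟩
    have hTp : IsPGroup r T := (PBasic.pCore_isPGroup r C).map _
    have key : ∀ g : G, ∀ v ∈ Z, v ≠ 1 → Commute g v → g ∈ C := by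
      intro g v hv hv1 hgv
      refine mem_of_primePow C g fun d x hd hxg hxo => ?_
      obtain ⟨i, hi⟩ := hxo
      obtain ⟨n, rfl⟩ := Subgroup.mem_zpowers_iff.mp hxg
      have hxv : Commute v (g ^ n) := (hgv.zpow_left n).symm
      by_cases hdq : d = q
      · subst hdq
        have hT1 : T ≠ ⊥ := fun e => ht1 (Subgroup.mem_bot.mp (e ▸ htT))
        have hxT : g ^ n ∈ Subgroup.centralizer (T : Set G) := by
          intro s hs
          obtain ⟨l, hl⟩ := IsPGroup.iff_orderOf.mp hTp ⟨s, hs⟩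
          rw [Subgroup.orderOf_mk] at hl
          have hsC : s ∈ C := Subgroup.map_subtype_le T0 hs
          exact (commute_of_common hCN hv1 hxv (hsC v hv) (by
            rw [hi, hl]; exact ((Nat.coprime_primes hd hr).mpr (Ne.symm hrq)).pow i l)).eq.symm
        haveI : (Subgroup.centralizer (T : Set G)).Normal := inferInstance
        obtain ⟨⟨s, hs⟩, hs1⟩ := Subgroup.ne_bot_iff_exists_ne_one.1 hT1
        have hle : Subgroup.centralizer (T : Set G) ≤ Subgroup.centralizer ({s} : Set G) :=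
          Subgroup.centralizer_le (by simpa using hs)
        set D := Subgroup.centralizer (T : Set G) with hD
        haveI : Group.IsNilpotent (Subgroup.centralizer ({s} : Set G)) :=
          hCN s (fun h => hs1 (Subtype.ext h))
        haveI hDnil : Group.IsNilpotent D := by
          refine Subgroup.isNilpotent_of_ker_le_center (Subgroup.inclusion hle) ?_
          rw [(MonoidHom.ker_eq_bot_iff _).mpr (Subgroup.inclusion_injective hle)]
          exact bot_le
        obtain ⟨S, hS⟩ : ∃ S : Sylow d D, Subgroup.zpowers (⟨g ^ n, hxT⟩ : D) ≤ (S : Subgroup D) :=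
          (IsPGroup.of_card (n := i) (by
            rw [Nat.card_zpowers, Subgroup.orderOf_mk, hi])).exists_le_sylow
        haveI hSn : (S : Subgroup D).Normal := inferInstance
        have hmem : g ^ n ∈ (Cfsg.pCore d D).map D.subtype :=
          ⟨⟨g ^ n, hxT⟩, PBasic.le_pCore hSn S.isPGroup' (hS (Subgroup.mem_zpowers _)), rfl⟩
        haveI : (Cfsg.pCore d D).Characteristic := PBasic.pCore_characteristic d D
        exact hRC (PBasic.le_pCore (inferInstance : ((Cfsg.pCore d D).map D.subtype).Normal)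
          ((PBasic.pCore_isPGroup d D).map _) hmem)
      · intro z hz
        obtain ⟨l, hl⟩ := IsPGroup.iff_orderOf.mp hR ⟨z, hz.1⟩
        rw [Subgroup.orderOf_mk] at hl
        exact (commute_of_common hCN hv1 hxv (hz.2 v hv.1) (by
          rw [hi, hl]; exact ((Nat.coprime_primes hd Fact.out).mpr hdq).pow i l)).eq.symm
    let φ : G →* MulAut Z := MulAut.conjNormal
    have hker : C ≤ φ.ker := by
      intro c hc
      rw [MonoidHom.mem_ker]
      ext z
      show c * z * c⁻¹ = z
      rw [← hc z z.2, mul_inv_cancel_right]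
    haveI : Nontrivial Z := (Subgroup.nontrivial_iff_ne_bot Z).mpr hZ1
    haveI : IsZGroup (G ⧸ C) := isZGroup_of_fpf
      (hodd.of_dvd_nat (Subgroup.card_quotient_dvd_card C)) (QuotientGroup.lift C φ hker)
      fun a ha z hz => by
        obtain ⟨g, rfl⟩ := QuotientGroup.mk_surjective a
        by_contra hz1
        refine ha ((QuotientGroup.eq_one_iff g).mpr (key g z z.2 (fun h => hz1 (Subtype.ext h)) ?_))
        have h1 : g * z * g⁻¹ = (z : G) := congrArg Subtype.val hz
        exact mul_inv_eq_iff_eq_mul.mp h1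
    exact Group.isSolvable_of_ker_le_range C.subtype (QuotientGroup.mk' C) (by simp)

end Cfsg.Agent.CN
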