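import Cfsg.Agent.Lib.CN.Quotient
import Cfsg.Agent.Lib.PLocal.ZJStable
import Cfsg.Agent.Lib.Transfer.Fusion
import Cfsg.Agent.Lib.Solvable.Structure
import Cfsg.Agent.Lib.Solvable.Fitting

/-!
# Solvable `p`-locals of odd order in which `p'`-elements centralise no `p`-element

Quadratic elements lie in `O_p` (whence the hypothesis of the `ZJ`-theorem) and, unless the Sylow
`p`-subgroup is normal, there is a nontrivial `p`-quotient.
-/

set_option autoImplicit false
set_option linter.style.haveILetI false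
set_option linter.unusedSectionVars false

open scoped commutatorElement

namespace Cfsg.Agent.CN

universe u v

/-- The algebraic core: a quadratic element normalising a fixed-point-free abelian group of
operators centralises it. -/
theorem quad_commute {A : Type u} [Ring A] {X : Type v} [Group X] (ρ : X →* A) (a x : X)
    (hq : (ρ a - 1) * (ρ a - 1) = 0)
    (hxy : Commute (ρ x) (ρ (a * x * a⁻¹))) (hxz : Commute (ρ x) (ρ (a * (a * x * a⁻¹) * a⁻¹)))
    (_hyz : Commute (ρ (a * x * a⁻¹)) (ρ (a * (a * x * a⁻¹) * a⁻¹)))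
    (hreg : ∀ b, 2 * (ρ (a * (a * x * a⁻¹) * a⁻¹) - ρ (a * x * a⁻¹)) * b = 0 → b = 0) :
    ρ (a * x * a⁻¹) = ρ x := by
  set α := ρ a
  set b := ρ x
  set c := ρ (a * x * a⁻¹) with hc
  set d := ρ (a * (a * x * a⁻¹) * a⁻¹) with hd
  have h1 : α * b = c * α := by rw [hc, ← map_mul, ← map_mul]; congr 1; group
  have h2 : α * c = d * α := by rw [hd, ← map_mul, ← map_mul]; congr 1; group
  have hq2 : α * α = 2 * α - 1 := by
    rw [← sub_eq_zero]
    calc α * α - (2 * α - 1) = (α - 1) * (α - 1) := by noncomm_ring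
      _ = 0 := hq
  have e1 : 2 * (d - c) * α = d - b := by
    have h : (2 * α - 1) * b = d * (2 * α - 1) := by
      rw [← hq2, mul_assoc, h1, ← mul_assoc, h2, mul_assoc]
    have h' : (2 * α - 1) * b = 2 * c * α - b := by
      rw [sub_mul, one_mul, mul_assoc, h1, ← mul_assoc]
    rw [h'] at h
    calc 2 * (d - c) * α = d * (2 * α - 1) + d - (2 * c * α - b) - b := by noncomm_ring
      _ = d - b := by rw [h]; noncomm_ring
  have hbd : b * (d - c) = (d - c) * b := by rw [mul_sub, sub_mul, hxz.eq, hxy.eq]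
  have hbdb : b * (d - b) = (d - b) * b := by rw [mul_sub, sub_mul, hxz.eq]
  have e2 : 2 * (d - c) * ((c - b) * α) = 0 := by
    have hl : 2 * (d - c) * (c * α) = (d - b) * b := by rw [← h1, ← mul_assoc, e1]
    have hr : 2 * (d - c) * (b * α) = (d - b) * b := by
      calc 2 * (d - c) * (b * α) = 2 * ((d - c) * b) * α := by noncomm_ring
        _ = 2 * (b * (d - c)) * α := by rw [hbd]
        _ = b * (2 * (d - c) * α) := by noncomm_ring
        _ = (d - b) * b := by rw [e1, hbdb]
    rw [sub_mul, mul_sub, hl, hr, sub_self]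
  have e3 := hreg _ e2
  have e4 := congrArg (· * ρ a⁻¹) e3
  simp only [zero_mul, mul_assoc] at e4
  rw [show α * ρ a⁻¹ = 1 by rw [← map_mul, mul_inv_cancel, map_one], mul_one] at e4
  exact sub_eq_zero.mp e4

/-- No nontrivial `p'`-element commutes with a nontrivial `p`-element. -/
def PFree (p : ℕ) (H : Type u) [Group H] : Prop :=
  ∀ x v : H, x ≠ 1 → (orderOf x).Coprime p → (∃ k, orderOf v = p ^ k) → Commute x v → v = 1

variable {p : ℕ} [Fact p.Prime] {H : Type u} [Group H] [Finite H]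

theorem exists_pow_of_isPGroup {R : Subgroup H} (hR : IsPGroup p R) {v : H} (hv : v ∈ R) :
    ∃ k, orderOf v = p ^ k := by
  obtain ⟨k, hk⟩ := IsPGroup.iff_orderOf.mp hR ⟨v, hv⟩
  exact ⟨k, by rw [← hk, Subgroup.orderOf_mk]⟩

variable (hP : PFree p H) (hR1 : Cfsg.pCore p H ≠ ⊥)
include hP hR1

theorem pPrimeCore_eq_bot : Cfsg.pPrimeCore p H = ⊥ := by
  rw [eq_bot_iff]
  intro x hx
  rw [Subgroup.mem_bot]
  by_contra hx1
  obtain ⟨⟨r, hr⟩, hr1⟩ := Subgroup.ne_bot_iff_exists_ne_one.1 hR1
  have hdis : Disjoint (Cfsg.pPrimeCore p H) (Cfsg.pCore p H) := by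
    rw [disjoint_iff, eq_bot_iff]
    intro y hy
    exact Subgroup.mem_bot.mpr (PBasic.eq_one_of_isPGroup_of_coprime (PBasic.pCore_isPGroup p H)
      hy.2 ((PBasic.pPrimeCore_coprime p H).coprime_dvd_left (Subgroup.orderOf_dvd_natCard _ hy.1)))
  have hxr : Commute x r := Subgroup.commute_of_normal_of_disjoint _ _
    (Cfsg.Agent.FittingCores.pPrimeCore_normal p) (Cfsg.pCore_normal p H) hdis x r hx hr
  exact hr1 (Subtype.ext (hP x r hx1
    ((PBasic.pPrimeCore_coprime p H).coprime_dvd_left (Subgroup.orderOf_dvd_natCard _ hx))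
    (exists_pow_of_isPGroup (PBasic.pCore_isPGroup p H) hr) hxr))

/-- The action of `H/R` on an invariant subgroup of `Z(R)` is fixed point free on `p'`-elements. -/
theorem fixed_eq_one {c : H ⧸ Cfsg.pCore p H} (hc : (orderOf c).Coprime p) (hc1 : c ≠ 1) {h : H}
    (hhc : (h : H ⧸ Cfsg.pCore p H) = c) {v : H} (hv : v ∈ Cfsg.pCore p H) (hhv : Commute h v) :
    v = 1 := by
  have hpc := (Fact.out : p.Prime)
  obtain ⟨s, m, hm, hsm⟩ := Nat.exists_eq_pow_mul_and_not_dvd (orderOf_pos h).ne' p hpc.ne_one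
  refine hP (h ^ p ^ s) v (fun e => hc1 ?_) ?_ (exists_pow_of_isPGroup (PBasic.pCore_isPGroup p H) hv)
    (hhv.pow_left _)
  · have h1 : c ^ p ^ s = 1 := by rw [← hhc, ← QuotientGroup.mk_pow, e]; rfl
    exact orderOf_eq_one_iff.mp (Nat.eq_one_of_dvd_coprimes (hc.pow_right s)
      dvd_rfl (orderOf_dvd_of_pow_eq_one h1))
  · rw [orderOf_pow' h (pow_pos hpc.pos s).ne', hsm, Nat.gcd_eq_right (Dvd.intro m rfl),
      Nat.mul_div_cancel_left m (pow_pos hpc.pos s)]
    exact (Nat.Coprime.symm ((hpc.coprime_iff_not_dvd).mpr hm))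

omit hP hR1 in
theorem fitting_coprime {c : H ⧸ Cfsg.pCore p H}
    (hc : c ∈ Cfsg.fittingSubgroup (H ⧸ Cfsg.pCore p H)) : (orderOf c).Coprime p := by
  set Q := H ⧸ Cfsg.pCore p H
  haveI : Group.IsNilpotent (Cfsg.fittingSubgroup Q) := FittingCores.fitting_nilpotent
  obtain ⟨S⟩ : Nonempty (Sylow p (Cfsg.fittingSubgroup Q)) := inferInstance
  have hS : (S : Subgroup (Cfsg.fittingSubgroup Q)).map (Cfsg.fittingSubgroup Q).subtype ≤ ⊥ := by
    have := FittingCores.sylow_le_pCore_of_nilpotent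
      (FittingCores.fitting_normal (G := Q)) p S
    rwa [PBasic.pCore_quotient_pCore] at this
  rw [le_bot_iff, Subgroup.map_eq_bot_iff_of_injective _ (Subgroup.subtype_injective _)] at hS
  have hcard : Nat.Coprime (Nat.card (Cfsg.fittingSubgroup Q)) p := by
    rw [Nat.coprime_comm, (Fact.out : p.Prime).coprime_iff_not_dvd]
    intro hd
    have := S.ne_bot_of_dvd_card hd
    exact this hS
  exact hcard.coprime_dvd_left (Subgroup.orderOf_dvd_natCard _ hc)

theorem fitting_isCyclic (hodd : Odd (Nat.card H)) :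
    IsCyclic (Cfsg.fittingSubgroup (H ⧸ Cfsg.pCore p H)) := by
  set R := Cfsg.pCore p H
  set Z := R ⊓ Subgroup.centralizer (R : Set H)
  haveI : R.Normal := Cfsg.pCore_normal p H
  haveI : Z.Normal := inferInstance
  haveI : Nontrivial Z := (Subgroup.nontrivial_iff_ne_bot Z).mpr
    (exists_center_inf (PBasic.pCore_isPGroup p H) hR1)
  let φ : H →* MulAut Z := MulAut.conjNormal
  have hker : R ≤ φ.ker := by
    intro c hc
    rw [MonoidHom.mem_ker]
    ext z
    show c * z * c⁻¹ = z
    rw [z.2.2 c hc, mul_inv_cancel_right]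
  set F := Cfsg.fittingSubgroup (H ⧸ R)
  haveI : Group.IsNilpotent F := FittingCores.fitting_nilpotent
  haveI : IsZGroup F := isZGroup_of_fpf
    (hodd.of_dvd_nat ((Subgroup.card_subgroup_dvd_card F).trans (Subgroup.card_quotient_dvd_card R)))
    ((QuotientGroup.lift R φ hker).comp F.subtype) fun a ha z hz => by
      obtain ⟨g, hg⟩ := QuotientGroup.mk_surjective (a : H ⧸ R)
      have hz' : φ g z = z := by
        have : QuotientGroup.lift R φ hker (g : H ⧸ R) = φ g := rfl
        rw [← this, hg]; exact hz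
      refine Subtype.ext (fixed_eq_one hP hR1 (c := (a : H ⧸ R)) (fitting_coprime a.2)
        (fun e => ha (Subtype.ext e)) hg z.2.1 (mul_inv_eq_iff_eq_mul.mp (congrArg Subtype.val hz')))
  infer_instance

variable [Group.IsSolvable H]

/-- The hypothesis of the `ZJ`-theorem. -/
theorem isQuad (hodd : Odd (Nat.card H)) : ZJ.IsQuad p H := by
  intro B hBn a hB ha hq
  haveI := hBn
  set R := Cfsg.pCore p H with hRdef
  haveI : R.Normal := Cfsg.pCore_normal p H
  set f := QuotientGroup.mk' (Subgroup.centralizer (B : Set H))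
  by_cases haR : a ∈ R
  · exact PBasic.le_pCore (Subgroup.Normal.map ‹R.Normal› f (QuotientGroup.mk'_surjective _))
      ((PBasic.pCore_isPGroup p H).map f) (Subgroup.mem_map_of_mem f haR)
  by_cases hB1 : B = ⊥
  · have : (a : H ⧸ Subgroup.centralizer (B : Set H)) = 1 := by
      rw [QuotientGroup.eq_one_iff, hB1]
      intro y hy
      rw [SetLike.mem_coe, Subgroup.mem_bot] at hy
      subst hy; simp
    rw [this]; exact Subgroup.one_mem _
  exfalso
  apply haR
  have hBR : B ≤ R := PBasic.le_pCore hBn hB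
  set V := B ⊓ Subgroup.centralizer (R : Set H) with hVdef
  haveI : V.Normal := inferInstance
  have hV1 : V ≠ ⊥ := by
    haveI : Group.IsNilpotent R := (PBasic.pCore_isPGroup p H).isNilpotent
    have hne : B.subgroupOf R ≠ ⊥ := by
      intro h
      rw [Subgroup.subgroupOf_eq_bot] at h
      exact hB1 (disjoint_self.mp (h.mono_right hBR))
    obtain ⟨⟨w, hwB, hwc⟩, hw1⟩ :=
      Subgroup.ne_bot_iff_exists_ne_one.1 (SolvStruct.inf_center_ne_bot hne)
    refine Subgroup.ne_bot_iff_exists_ne_one.2 ⟨⟨(w : H), hwB, fun r hr => ?_⟩, fun e => hw1 ?_⟩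
    · exact congrArg Subtype.val (Subgroup.mem_center_iff.mp hwc ⟨r, hr⟩)
    · have e' : (w : H) = 1 := congrArg Subtype.val e
      exact Subtype.ext (Subtype.ext e')
  letI : CommGroup V :=
    { (inferInstance : Group V) with mul_comm := fun x y => Subtype.ext (y.2.2 x (hBR x.2.1)) }
  let ρ₀ : H →* AddMonoid.End (Additive V) :=
    { toFun := fun h => MonoidHom.toAdditive (MulAut.conjNormal h : MulAut V).toMonoidHom
      map_one' := by
        apply AddMonoidHom.ext; intro v
        exact Additive.toMul.injective (Subtype.ext (by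
          show (1 : H) * ((Additive.toMul v : V) : H) * (1 : H)⁻¹ = ((Additive.toMul v : V) : H)
          simp))
      map_mul' := fun g h => by
        apply AddMonoidHom.ext; intro v
        exact Additive.toMul.injective (Subtype.ext (by
          show (g * h) * ((Additive.toMul v : V) : H) * (g * h)⁻¹ = _
          show _ = g * (h * ((Additive.toMul v : V) : H) * h⁻¹) * g⁻¹
          group)) }
  have hρ0 : ∀ (h : H) (v : Additive V),
      ((Additive.toMul (ρ₀ h v) : V) : H) = h * ((Additive.toMul v : V) : H) * h⁻¹ := fun h v => rfl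
  have hker : R ≤ ρ₀.ker := by
    intro c hc
    rw [MonoidHom.mem_ker]
    apply AddMonoidHom.ext; intro v
    apply Additive.toMul.injective
    apply Subtype.ext
    refine (hρ0 c v).trans ?_
    rw [(Additive.toMul v : V).2.2 c hc, mul_inv_cancel_right]
    rfl
  let ρ : (H ⧸ R) →* AddMonoid.End (Additive V) := QuotientGroup.lift R ρ₀ hker
  have hρ : ∀ h : H, ρ (h : H ⧸ R) = ρ₀ h := fun h => rfl
  set F := Cfsg.fittingSubgroup (H ⧸ R) with hF
  haveI : F.Normal := FittingCores.fitting_normal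
  haveI := fitting_isCyclic hP hR1 hodd
  letI : CommGroup F := IsCyclic.commGroup
  have hcommF : ∀ s ∈ F, ∀ t ∈ F, s * t = t * s := fun s hs t ht =>
    congrArg Subtype.val (mul_comm (⟨s, hs⟩ : F) ⟨t, ht⟩)
  have hfpf : ∀ c ∈ F, c ≠ 1 → ∀ v : Additive V, ρ c v = v → v = 0 := by
    intro c hc hc1 v hv
    obtain ⟨h, rfl⟩ := QuotientGroup.mk_surjective c
    rw [hρ] at hv
    have e := congrArg (fun w : Additive V => ((Additive.toMul w : V) : H)) hv
    simp only [hρ0] at e
    apply Additive.toMul.injective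
    exact Subtype.ext (fixed_eq_one hP hR1 (fitting_coprime hc) hc1 rfl
      (hBR (Additive.toMul v : V).2.1) (mul_inv_eq_iff_eq_mul.mp e))
  by_contra hna
  have haF : (a : H ⧸ R) ∉ F := by
    intro h
    refine hna ((QuotientGroup.eq_one_iff a).mp (orderOf_eq_one_iff.mp ?_))
    obtain ⟨k, hk⟩ := exists_pow_of_isPGroup ha (Subgroup.mem_zpowers a)
    exact Nat.eq_one_of_dvd_coprimes ((fitting_coprime h).pow_right k) dvd_rfl
      (hk ▸ orderOf_map_dvd (QuotientGroup.mk' R) a)
  obtain ⟨c, hc, hca⟩ : ∃ c ∈ F, (a : H ⧸ R) * c * (a : H ⧸ R)⁻¹ ≠ c := by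
    by_contra hcon
    push Not at hcon
    exact haF (FittingCores.centralizer_fitting_le fun s hs =>
      (mul_inv_eq_iff_eq_mul.mp (hcon s hs)).symm)
  set A : H ⧸ R := (a : H ⧸ R) with hA
  have hy : A * c * A⁻¹ ∈ F := ‹F.Normal›.conj_mem _ hc A
  have hz : A * (A * c * A⁻¹) * A⁻¹ ∈ F := ‹F.Normal›.conj_mem _ hy A
  have hquad : (ρ A - 1) * (ρ A - 1) = 0 := by
    apply AddMonoidHom.ext
    intro v
    show (ρ A - 1) ((ρ A - 1) v) = 0
    set w := (ρ A - 1) v with hw
    show ρ A w - w = 0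
    rw [sub_eq_zero]
    apply Additive.toMul.injective
    apply Subtype.ext
    rw [hA, hρ, hρ0]
    have hwval : ((Additive.toMul w : V) : H) =
        a * ((Additive.toMul v : V) : H) * a⁻¹ * ((Additive.toMul v : V) : H)⁻¹ := by
      have e : w = ρ₀ a v - v := rfl
      rw [e, toMul_sub, div_eq_mul_inv, Subgroup.coe_mul, Subgroup.coe_inv, hρ0]
    have hmem : ((Additive.toMul w : V) : H) ∈ ⁅B, Subgroup.zpowers a⁆ := by
      rw [hwval, Subgroup.commutator_comm]
      exact Subgroup.commutator_mem_commutator (Subgroup.mem_zpowers a) (Additive.toMul v : V).2.1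
    have h2 : ⁅((Additive.toMul w : V) : H), a⁆ = 1 := Subgroup.mem_bot.mp
      (hq ▸ Subgroup.commutator_mem_commutator hmem (Subgroup.mem_zpowers a))
    rw [commutatorElement_eq_one_iff_mul_comm] at h2
    rw [← h2, mul_inv_cancel_right]
  have hreg : ∀ b : AddMonoid.End (Additive V),
      2 * (ρ (A * (A * c * A⁻¹) * A⁻¹) - ρ (A * c * A⁻¹)) * b = 0 → b = 0 := by
    intro b hb
    apply AddMonoidHom.ext
    intro v
    show b v = 0
    set u := b v
    have e : 2 • (ρ (A * (A * c * A⁻¹) * A⁻¹) u - ρ (A * c * A⁻¹) u) = 0 := by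
      have := DFunLike.congr_fun hb v
      rw [two_mul] at this
      rw [two_nsmul]
      exact this
    set t := ρ (A * (A * c * A⁻¹) * A⁻¹) u - ρ (A * c * A⁻¹) u with ht
    have ht0 : t = 0 := by
      apply Additive.toMul.injective
      have e2 : (Additive.toMul t : V) ^ 2 = 1 := by
        rw [← toMul_nsmul, e, toMul_zero]
      apply orderOf_eq_one_iff.mp
      have hd : orderOf (Additive.toMul t : V) ∣ 2 := orderOf_dvd_of_pow_eq_one e2
      have hodd' : Odd (orderOf (Additive.toMul t : V)) :=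
        hodd.of_dvd_nat ((orderOf_dvd_natCard _).trans (Subgroup.card_subgroup_dvd_card V))
      rcases (Nat.dvd_prime Nat.prime_two).mp hd with h | h
      · exact h
      · rw [h] at hodd'; exact absurd hodd' (by decide)
    rw [ht, sub_eq_zero] at ht0
    have hs := congrArg (ρ (A * c * A⁻¹)⁻¹) ht0
    change (ρ (A * c * A⁻¹)⁻¹ * ρ (A * (A * c * A⁻¹) * A⁻¹)) u =
      (ρ (A * c * A⁻¹)⁻¹ * ρ (A * c * A⁻¹)) u at hs
    rw [← map_mul, ← map_mul, inv_mul_cancel, map_one] at hs
    change _ = u at hs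
    refine hfpf _ (F.mul_mem (F.inv_mem hy) hz) (fun e1 => hca ?_) u hs
    have e3 := inv_mul_eq_one.mp e1
    have e4 : c = A * c * A⁻¹ := by
      have := congrArg (fun x => A⁻¹ * x * A) e3
      simpa [mul_assoc] using this
    exact e4.symm
  have hcomm : ∀ s ∈ F, ∀ t ∈ F, Commute (ρ s) (ρ t) := fun s hs t ht => by
    show ρ s * ρ t = ρ t * ρ s
    rw [← map_mul, ← map_mul, hcommF s hs t ht]
  have key := quad_commute ρ A c hquad (hcomm _ hc _ hy) (hcomm _ hc _ hz) (hcomm _ hy _ hz) hreg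
  obtain ⟨⟨v, hv⟩, hv1⟩ := Subgroup.ne_bot_iff_exists_ne_one.1 hV1
  refine hv1 ?_
  have hfix : ρ (c⁻¹ * (A * c * A⁻¹)) (Additive.ofMul (⟨v, hv⟩ : V)) = Additive.ofMul ⟨v, hv⟩ := by
    rw [map_mul, key, ← map_mul, inv_mul_cancel, map_one]; rfl
  exact congrArg Additive.toMul
    (hfpf _ (F.mul_mem (F.inv_mem hc) hy) (fun e => hca (inv_mul_eq_one.mp e).symm) _ hfix)

/-- Without a `p`-quotient the Sylow `p`-subgroup is normal. -/
theorem not_dvd_of_pResidual (hodd : Odd (Nat.card H)) (hres : Cfsg.pResidual p H = ⊤) :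
    ¬ p ∣ Nat.card (H ⧸ Cfsg.pCore p H) := by
  set R := Cfsg.pCore p H
  set Q := H ⧸ R
  set F := Cfsg.fittingSubgroup Q
  haveI : F.Normal := FittingCores.fitting_normal
  haveI := fitting_isCyclic hP hR1 hodd
  intro hd
  obtain ⟨c, hc⟩ := exists_prime_orderOf_dvd_card' (G := Q) p hd
  have hresQ : Cfsg.pResidual p Q = ⊤ := by
    rw [eq_top_iff, ← Subgroup.map_top_of_surjective (QuotientGroup.mk' R)
      (QuotientGroup.mk'_surjective R), ← hres]
    exact PBasic.map_pResidual_le _
  have hcF : c ∈ F := by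
    set φ : Q →* MulAut F := MulAut.conjNormal
    have hres' : Cfsg.pResidual p φ.range = ⊤ := by
      rw [eq_top_iff, ← Subgroup.map_top_of_surjective φ.rangeRestrict
        φ.rangeRestrict_surjective, ← hresQ]
      exact PBasic.map_pResidual_le _
    have hcm : ∀ a b : φ.range, a * b = b * a := by
      obtain ⟨g, hg⟩ := IsCyclic.exists_generator (α := F)
      intro a b
      apply Subtype.ext
      apply MulEquiv.toMonoidHom_injective
      refine (MonoidHom.eq_iff_eq_on_generator hg _ _).mpr ?_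
      obtain ⟨i, hi⟩ := Subgroup.mem_zpowers_iff.mp (hg ((a : MulAut F) g))
      obtain ⟨j, hj⟩ := Subgroup.mem_zpowers_iff.mp (hg ((b : MulAut F) g))
      show (a : MulAut F) ((b : MulAut F) g) = (b : MulAut F) ((a : MulAut F) g)
      rw [← hi, ← hj, map_zpow, map_zpow, ← hi, ← hj, ← zpow_mul, ← zpow_mul, mul_comm]
    have h1 : φ.rangeRestrict c = 1 := by
      refine orderOf_eq_one_iff.mp ?_
      have hcop := Fusion.coprime_of_mem_pResidual_of_comm (p := p) hcm
        (x := φ.rangeRestrict c) (by rw [hres']; exact Subgroup.mem_top _)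
      exact Nat.eq_one_of_dvd_coprimes hcop dvd_rfl
        ((orderOf_map_dvd φ.rangeRestrict c).trans (dvd_of_eq hc))
    refine FittingCores.centralizer_fitting_le fun s hs => ?_
    have h2 := congrArg (fun e : φ.range => ((e : MulAut F) ⟨s, hs⟩ : Q)) h1
    have h3 : c * s * c⁻¹ = s := h2
    exact (mul_inv_eq_iff_eq_mul.mp h3).symm
  have := fitting_coprime hcF
  rw [hc] at this
  exact (Fact.out : p.Prime).ne_one ((Nat.coprime_self p).mp this)

end Cfsg.Agent.CN
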