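import Cfsg.Agent.Lib.CN.NormalSylow
import Cfsg.Agent.Lib.CN.Stable
import Cfsg.Prelude.Def_OddOrderLocal

/-!
# Solvable CN groups
-/

set_option autoImplicit false
set_option linter.style.haveILetI false
set_option linter.unusedSectionVars false

namespace Cfsg.Agent.CN

universe u v

/-- A group acting fixed point freely has nontrivial centre. -/
theorem center_ne_bot_of_fpf {Z : Type u} [Group Z] [Finite Z] [Nontrivial Z] {A : Type v}
    [Group A] [Finite A] [Nontrivial A] (φ : A →* MulAut Z)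
    (hfpf : ∀ a : A, a ≠ 1 → ∀ z : Z, φ a z = z → z = 1) : Subgroup.center A ≠ ⊥ := by
  haveI : Finite (Z ⋊[φ] A) := Finite.of_equiv _ SemidirectProduct.equivProd.symm
  set K := (SemidirectProduct.inl : Z →* Z ⋊[φ] A).range with hK
  set H := (SemidirectProduct.inr : A →* Z ⋊[φ] A).range with hH
  haveI : K.Normal := by
    rw [hK, SemidirectProduct.range_inl_eq_ker_rightHom]; infer_instance
  have hKne : K ≠ ⊥ := by
    obtain ⟨z, hz⟩ := exists_ne (1 : Z)
    intro h
    have : SemidirectProduct.inl (φ := φ) z ∈ K := ⟨z, rfl⟩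
    rw [h, Subgroup.mem_bot, ← map_one (SemidirectProduct.inl (φ := φ))] at this
    exact hz (SemidirectProduct.inl_injective this)
  have hHne : H ≠ ⊥ := by
    obtain ⟨a, ha⟩ := exists_ne (1 : A)
    intro h
    have : SemidirectProduct.inr (φ := φ) a ∈ H := ⟨a, rfl⟩
    rw [h, Subgroup.mem_bot, ← map_one (SemidirectProduct.inr (φ := φ))] at this
    exact ha (SemidirectProduct.inr_injective this)
  have hc : Subgroup.IsComplement' K H := by
    refine Subgroup.isComplement'_of_card_mul_and_disjoint ?_ ?_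
    · rw [hK, hH,
        ← Nat.card_congr (MonoidHom.ofInjective (SemidirectProduct.inl_injective (φ := φ))).toEquiv,
        ← Nat.card_congr (MonoidHom.ofInjective (SemidirectProduct.inr_injective (φ := φ))).toEquiv,
        SemidirectProduct.card]
    · rw [disjoint_iff, eq_bot_iff]
      rintro x ⟨⟨z, rfl⟩, ⟨a, ha⟩⟩
      rw [Subgroup.mem_bot]
      have := congrArg SemidirectProduct.left ha
      simp at this
      rw [← this, map_one]
  have hf : ∀ h ∈ H, h ≠ 1 → K ⊓ Subgroup.centralizer {h} = ⊥ := by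
    rintro _ ⟨a, rfl⟩ ha
    rw [eq_bot_iff]
    rintro _ ⟨⟨z, rfl⟩, hz⟩
    rw [Subgroup.mem_bot]
    have ha' : a ≠ 1 := fun h => ha (by rw [h, map_one])
    have h2 := SemidirectProduct.inl_aut (φ := φ) a z
    rw [← (Subgroup.mem_centralizer_singleton_iff.mp hz), mul_assoc, ← map_mul,
      mul_inv_cancel, map_one, mul_one] at h2
    rw [hfpf a ha' z (SemidirectProduct.inl_injective h2), map_one]
  obtain ⟨⟨c, hcc⟩, hc1⟩ := Subgroup.ne_bot_iff_exists_ne_one.1 (S0069.result K H hc hKne hHne hf)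
  let e : A ≃* H := MonoidHom.ofInjective (SemidirectProduct.inr_injective (φ := φ))
  refine Subgroup.ne_bot_iff_exists_ne_one.2
    ⟨⟨e.symm c, Subgroup.mem_center_iff.mpr fun g => ?_⟩, fun h => hc1 (Subtype.ext ?_)⟩
  · apply e.injective
    rw [map_mul, map_mul, e.apply_symm_apply]
    exact Subgroup.mem_center_iff.mp hcc (e g)
  · have h' := congrArg Subtype.val h
    simp only [OneMemClass.coe_one] at h'
    have := congrArg e h'
    rwa [e.apply_symm_apply, map_one] at this

variable {G : Type u} [Group G] [Finite G]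

theorem nilpotent_complement_structure {K E : Subgroup G} [K.Normal] (hc : Subgroup.IsComplement' K E)
    (hK : K ≠ ⊥) (hEn : Group.IsNilpotent E)
    (hfpf : ∀ e ∈ E, e ≠ 1 → K ⊓ Subgroup.centralizer ({e} : Set G) = ⊥) :
    IsCyclic E ∨ ∃ C Q : Subgroup G, C ⊔ Q = E ∧ (∀ a ∈ C, ∀ b ∈ Q, a * b = b * a) ∧ IsCyclic C ∧
      Odd (Nat.card C) ∧ ∃ n : ℕ, Nonempty (↥Q ≃* QuaternionGroup (2 ^ n)) := by
  haveI := hEn
  haveI : Nontrivial K := (Subgroup.nontrivial_iff_ne_bot K).mpr hK
  haveI : Fact (Nat.Prime 2) := ⟨Nat.prime_two⟩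
  obtain ⟨S⟩ : Nonempty (Sylow 2 E) := inferInstance
  have hab : ∀ {r : ℕ} [Fact r.Prime] (T : Sylow r E), IsCyclic T ∨
      (r = 2 ∧ ∃ n : ℕ, Nonempty (T ≃* QuaternionGroup (2 ^ n))) := by
    intro r _ T
    have hTE : (T : Subgroup E).map E.subtype ≤ E := Subgroup.map_subtype_le _
    have h := FpfStruct.abCyclic (K := K) (A := (T : Subgroup E).map E.subtype) hK
      (by rw [Subgroup.normalizer_eq_top]; exact le_top) (fun a ha => hfpf a (hTE ha))
    let e := (T : Subgroup E).equivMapOfInjective E.subtype E.subtype_injective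
    rcases FpfStruct.cyclic_or_quaternion (T.isPGroup'.map E.subtype) h with h' | ⟨h2, n, ⟨f⟩⟩
    · exact Or.inl (isCyclic_of_surjective e.symm e.symm.surjective)
    · exact Or.inr ⟨h2, n, ⟨e.trans f⟩⟩
  rcases hab S with hS | ⟨-, n, ⟨f⟩⟩
  · left
    haveI : IsZGroup E := by
      refine ⟨fun r hr T => ?_⟩
      haveI := Fact.mk hr
      rcases hab T with h | ⟨h2, -⟩
      · exact h
      · subst h2
        haveI := Sylow.unique_of_normal S inferInstance
        rw [Subsingleton.elim T S]
        exact hS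
    infer_instance
  · right
    haveI : (S : Subgroup E).Normal := inferInstance
    obtain ⟨C₀, hC₀⟩ := Subgroup.exists_right_complement'_of_coprime
      (N := (S : Subgroup E)) S.card_coprime_index
    set C := C₀.map E.subtype
    set Q := (S : Subgroup E).map E.subtype
    have hCodd : Odd (Nat.card C) := by
      rw [Subgroup.card_map_of_injective E.subtype_injective, ← hC₀.symm.index_eq_card]
      rw [Nat.odd_iff, ← Nat.two_dvd_ne_zero]
      exact S.not_dvd_index
    refine ⟨C, Q, ?_, ?_, ?_, hCodd, n,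
      ⟨((S : Subgroup E).equivMapOfInjective E.subtype E.subtype_injective).symm.trans f⟩⟩
    · rw [← Subgroup.map_sup, sup_comm, hC₀.sup_eq_top, ← MonoidHom.range_eq_map,
        Subgroup.range_subtype]
    · intro a ha b hb
      refine (commute_of_coprime hEn (Subgroup.map_subtype_le _ ha) (Subgroup.map_subtype_le _ hb)
        ?_).eq
      refine Nat.Coprime.coprime_dvd_left (Subgroup.orderOf_dvd_natCard C ha)
        (Nat.Coprime.coprime_dvd_right (Subgroup.orderOf_dvd_natCard Q hb) ?_)
      obtain ⟨k, hk⟩ := IsPGroup.iff_card.mp (S.isPGroup'.map E.subtype)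
      rw [hk]
      exact (Nat.coprime_two_right.mpr hCodd).pow_right k
    · have hCE : C ≤ E := Subgroup.map_subtype_le _
      haveI : Group.IsNilpotent C := nilpotent_of_le hCE hEn
      haveI : IsZGroup C := isZGroup_of_fpf hCodd
        ((MulAut.conjNormal : G →* MulAut K).comp C.subtype) fun a ha z hz => by
        have h1 : (z : G) ∈ K ⊓ Subgroup.centralizer ({(a : G)} : Set G) :=
          ⟨z.2, Subgroup.mem_centralizer_singleton_iff.mpr
            (mul_inv_eq_iff_eq_mul.mp (congrArg Subtype.val hz)).symm⟩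
        rw [hfpf a (hCE a.2) (fun e => ha (Subtype.ext e)), Subgroup.mem_bot] at h1
        exact Subtype.ext h1
      infer_instance

theorem solvable_structure [Group.IsSolvable G] (hCN : Cfsg.IsCNGroup G) :
    Group.IsNilpotent G ∨
      (∃ K E : Subgroup G, K.Normal ∧ Subgroup.IsComplement' K E ∧ Cfsg.IsFrobeniusComplement E ∧
        (IsCyclic E ∨ ∃ C Q : Subgroup G, C ⊔ Q = E ∧ (∀ a ∈ C, ∀ b ∈ Q, a * b = b * a) ∧
          IsCyclic C ∧ Odd (Nat.card C) ∧
          ∃ n : ℕ, Nonempty (↥Q ≃* QuaternionGroup (2 ^ n)))) ∨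
      ∃ p : ℕ, p.Prime ∧ Cfsg.IsThreeStepGroup p G := by
  by_cases hnn : Group.IsNilpotent G
  · exact Or.inl hnn
  right
  by_cases hsyl : ∃ (p : ℕ) (_ : Fact p.Prime) (P : Sylow p G),
      (P : Subgroup G) ≠ ⊥ ∧ (P : Subgroup G).Normal
  · obtain ⟨p, _, P, hP1, hPn⟩ := hsyl
    haveI := hPn
    obtain ⟨hne, -, ⟨E, hE, hEF, hEn, hfpf⟩, -⟩ := normalSylow_structure hCN P hP1 hnn
    exact Or.inl ⟨Cfsg.fittingHall G, E, inferInstance, hE, hEF,
      nilpotent_complement_structure hE hne hEn hfpf⟩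
  right
  have hF : Cfsg.fittingSubgroup G ≠ ⊥ := by
    intro hF
    have := FittingCores.centralizer_fitting_le (G := G)
    rw [hF] at this
    apply hnn
    have htop : ∀ x : G, x = 1 := fun x => Subgroup.mem_bot.mp (this (by
      intro y hy
      rw [SetLike.mem_coe, Subgroup.mem_bot] at hy
      subst hy; simp))
    haveI : Subsingleton G := ⟨fun a b => (htop a).trans (htop b).symm⟩
    infer_instance
  haveI : Group.IsNilpotent (Cfsg.fittingSubgroup G) := FittingCores.fitting_nilpotent
  obtain ⟨p, hp, hpd⟩ := Nat.exists_prime_and_dvd (fun h => hF (Subgroup.card_eq_one.mp h))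
  haveI := Fact.mk hp
  set R := Cfsg.pCore p G with hRdef
  haveI : R.Normal := Cfsg.pCore_normal p G
  have hR : IsPGroup p R := PBasic.pCore_isPGroup p G
  have hR1 : R ≠ ⊥ := by
    intro h
    obtain ⟨S⟩ : Nonempty (Sylow p (Cfsg.fittingSubgroup G)) := inferInstance
    have h2 := FittingCores.sylow_le_pCore_of_nilpotent (FittingCores.fitting_normal (G := G)) p S
    rw [← hRdef, h, le_bot_iff, Subgroup.map_eq_bot_iff_of_injective _ (Subgroup.subtype_injective _)] at h2
    exact S.ne_bot_of_dvd_card hpd h2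
  -- the Sylow `p`-subgroup is not normal
  have hnot : ¬ ∀ h : G, (∃ k, orderOf h = p ^ k) → h ∈ R := by
    intro hall
    apply hsyl
    obtain ⟨P⟩ : Nonempty (Sylow p G) := inferInstance
    have hPR : (P : Subgroup G) ≤ R := fun x hx => hall x (by
      obtain ⟨k, hk⟩ := IsPGroup.iff_orderOf.mp P.isPGroup' ⟨x, hx⟩
      exact ⟨k, by rw [← hk, Subgroup.orderOf_mk]⟩)
    have := P.is_maximal' hR hPR
    exact ⟨p, ‹_›, P, this ▸ hR1, this ▸ ‹R.Normal›⟩
  have hC : IsPGroup p (cc R) :=
    by_contra fun hC => hnot fun h hh => mem_pCore_of_not_pGroup hCN hR hR1 hC hh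
  have hfix : ∀ x : G, x ≠ 1 → (orderOf x).Coprime p → ∀ r ∈ R, Commute x r → r = 1 :=
    fun x hx1 hxq r hr hxr => by_contra fun hr1 => hx1
      (PBasic.eq_one_of_isPGroup_of_coprime hC (mem_cc_of_fix hCN hR hR1 hxq hr hr1 hxr) hxq)
  set Q := G ⧸ R with hQ
  set π := QuotientGroup.mk' R
  have hQnn : ¬ Group.IsNilpotent Q := by
    intro hQn
    haveI := hQn
    apply hnot
    intro h ⟨k, hk⟩
    obtain ⟨S, hS⟩ := (IsPGroup.of_card (n := k) (by rw [Nat.card_zpowers, hk]) :
      IsPGroup p (Subgroup.zpowers h)).map π |>.exists_le_sylow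
    have hcore : Cfsg.pCore p Q = ⊥ := PBasic.pCore_quotient_pCore p G
    have := (hS.trans (PBasic.le_pCore inferInstance S.isPGroup')).trans hcore.le
      (Subgroup.mem_map_of_mem π (Subgroup.mem_zpowers h))
    exact (QuotientGroup.eq_one_iff h).mp (Subgroup.mem_bot.mp this)
  set Z := R ⊓ Subgroup.centralizer (R : Set G) with hZ
  haveI : Z.Normal := inferInstance
  haveI : Nontrivial Z := (Subgroup.nontrivial_iff_ne_bot Z).mpr (exists_center_inf hR hR1)
  have hker : R ≤ (MulAut.conjNormal : G →* MulAut Z).ker := by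
    intro c hc
    rw [MonoidHom.mem_ker]
    ext z
    show c * z * c⁻¹ = z
    rw [z.2.2 c hc, mul_inv_cancel_right]
  set φ : Q →* MulAut Z := QuotientGroup.lift R MulAut.conjNormal hker with hφ
  have hφfix : ∀ c : Q, (orderOf c).Coprime p → c ≠ 1 → ∀ z : Z, φ c z = z → z = 1 := by
    intro c hc hc1 z hz
    obtain ⟨g, rfl⟩ := QuotientGroup.mk_surjective c
    have hgz : Commute g z := mul_inv_eq_iff_eq_mul.mp (congrArg Subtype.val hz)
    obtain ⟨s, m, hm, hsm⟩ := Nat.exists_eq_pow_mul_and_not_dvd (orderOf_pos g).ne' p hp.ne_one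
    refine Subtype.ext (hfix (g ^ p ^ s) (fun e => hc1 ?_) ?_ z z.2.1 (hgz.pow_left _))
    · have h1 : (g : Q) ^ p ^ s = 1 := by rw [← QuotientGroup.mk_pow, e]; rfl
      exact orderOf_eq_one_iff.mp (Nat.eq_one_of_dvd_coprimes (hc.pow_right s) dvd_rfl
        (orderOf_dvd_of_pow_eq_one h1))
    · rw [orderOf_pow' g (pow_pos hp.pos s).ne', hsm, Nat.gcd_eq_right (Dvd.intro m rfl),
        Nat.mul_div_cancel_left m (pow_pos hp.pos s)]
      exact Nat.Coprime.symm (hp.coprime_iff_not_dvd.mpr hm)
  set F := Cfsg.fittingSubgroup Q with hFdef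
  haveI : F.Normal := FittingCores.fitting_normal
  haveI : Group.IsNilpotent F := FittingCores.fitting_nilpotent
  have hFcop : ∀ c ∈ F, (orderOf c).Coprime p := fun c hc => fitting_coprime (H := G) (p := p) hc
  have hFfix : ∀ c ∈ F, c ≠ 1 → ∀ z : Z, φ c z = z → z = 1 := fun c hc => hφfix c (hFcop c hc)
  -- `F` has odd order
  have hFodd : Odd (Nat.card F) := by
    rw [Nat.odd_iff, ← Nat.two_dvd_ne_zero]
    intro h2
    haveI : Fact (Nat.Prime 2) := ⟨Nat.prime_two⟩
    obtain ⟨i, hi⟩ := exists_prime_orderOf_dvd_card' (G := F) 2 h2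
    have hinv : ∀ c : Q, c ∈ F → orderOf c = 2 → ∀ z : Z, φ c z = z⁻¹ := by
      intro c hc ho z
      have hzc : ∀ a b : Z, a * b = b * a := fun a b => Subtype.ext (b.2.2 a a.2.1)
      have hc1 : c ≠ 1 := fun e => by rw [e, orderOf_one] at ho; exact absurd ho (by norm_num)
      have hcc : φ c (φ c z) = z := by
        rw [← MulAut.mul_apply, ← map_mul, ← pow_two, ← ho, pow_orderOf_eq_one, map_one,
          MulAut.one_apply]
      have h1 := hFfix c hc hc1 (z * φ c z) (by rw [map_mul, hcc, hzc])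
      exact eq_inv_iff_mul_eq_one.mpr (by rw [hzc]; exact h1)
    have huniq : ∀ c : Q, c ∈ F → orderOf c = 2 → c = (i : Q) := by
      intro c hc ho
      by_contra hne
      obtain ⟨z, hz⟩ := exists_ne (1 : Z)
      refine hz (hFfix (c⁻¹ * (i : Q)) (F.mul_mem (F.inv_mem hc) i.2)
        (fun e => hne (inv_mul_eq_one.mp e)) z ?_)
      rw [map_mul, map_inv φ c, MulAut.mul_apply,
        hinv _ i.2 (by rw [Subgroup.orderOf_coe]; exact hi), MulAut.inv_apply,
        MulEquiv.symm_apply_eq]
      exact (hinv c hc ho z).symm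
    obtain ⟨g, hg⟩ := QuotientGroup.mk_surjective (i : Q)
    have hio : orderOf (i : Q) = 2 := by rw [Subgroup.orderOf_coe]; exact hi
    have hp2 : p ≠ 2 := fun e => by
      have := hFcop _ i.2
      rw [hio, e] at this
      norm_num at this
    obtain ⟨s, m, hm, hsm⟩ := Nat.exists_eq_pow_mul_and_not_dvd (orderOf_pos g).ne' 2 (by norm_num)
    set x := g ^ m
    have hxi : (x : Q) = (i : Q) := by
      rw [QuotientGroup.mk_pow, hg]
      obtain ⟨t, rfl⟩ : Odd m := Nat.odd_iff.mpr (Nat.two_dvd_ne_zero.mp hm)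
      rw [pow_succ, pow_mul, ← hio, pow_orderOf_eq_one, one_pow, one_mul]
    have hxo : orderOf x = 2 ^ s := by
      have hm0 : 0 < m := Nat.pos_of_ne_zero (fun e => hm (by rw [e]; exact dvd_zero 2))
      rw [orderOf_pow' g hm0.ne', hsm, Nat.gcd_eq_right (Dvd.intro_left (2 ^ s) rfl),
        Nat.mul_div_cancel _ hm0]
    have hxp : (orderOf x).Coprime p := by
      rw [hxo]
      exact ((Nat.coprime_primes Nat.prime_two hp).mpr (Ne.symm hp2)).pow_left s
    have hx1 : x ≠ 1 := fun e => by
      rw [e] at hxi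
      have : orderOf ((1 : G) : Q) = 2 := hxi ▸ hio
      simp at this
    apply hQnn
    haveI : Group.IsNilpotent (Subgroup.centralizer ({x} : Set G)) := hCN x hx1
    refine Group.nilpotent_of_surjective (π.comp (Subgroup.centralizer ({x} : Set G)).subtype) ?_
    intro h
    obtain ⟨h, rfl⟩ := QuotientGroup.mk_surjective h
    have hcomm : Commute (x : Q) (h : Q) := by
      rw [hxi]
      have e := huniq ((h : Q) * i * (h : Q)⁻¹) (‹F.Normal›.conj_mem _ i.2 _)
        (by rw [← MulAut.conj_apply, MulEquiv.orderOf_eq]; exact hio)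
      exact (mul_inv_eq_iff_eq_mul.mp e).symm
    obtain ⟨s, hs, hcs⟩ := exists_lift hCN hR hR1 hxp (commute_mod_iff.mp hcomm)
    exact ⟨⟨s⁻¹ * h, Subgroup.mem_centralizer_singleton_iff.mpr hcs.eq.symm⟩, by
      simp [π, (QuotientGroup.eq_one_iff s).mpr hs]⟩
  haveI : IsZGroup F := isZGroup_of_fpf hFodd (φ.comp F.subtype) fun a ha z hz =>
    hFfix a a.2 (fun e => ha (Subtype.ext e)) z hz
  haveI hFc : IsCyclic F := inferInstance
  letI : CommGroup F := IsCyclic.commGroup
  -- the quotient by `F` is a `p`-group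
  set ψ : Q →* MulAut F := MulAut.conjNormal
  have hψker : ψ.ker = F := by
    apply le_antisymm
    · intro c hc
      refine FittingCores.centralizer_fitting_le fun s hs => ?_
      have h2 : c * s * c⁻¹ = s :=
        congrArg (fun e : MulAut F => (e ⟨s, hs⟩ : Q)) (MonoidHom.mem_ker.mp hc)
      exact (mul_inv_eq_iff_eq_mul.mp h2).symm
    · intro c hc
      rw [MonoidHom.mem_ker]
      ext z
      show c * z * c⁻¹ = z
      rw [congrArg Subtype.val (mul_comm (⟨c, hc⟩ : F) z) |> fun e => (show c * (z : Q) = z * c from e),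
        mul_inv_cancel_right]
  have hcm : ∀ a b : ψ.range, Commute (a : MulAut F) b := by
    obtain ⟨g, hg⟩ := IsCyclic.exists_generator (α := F)
    intro a b
    apply MulEquiv.toMonoidHom_injective
    refine (MonoidHom.eq_iff_eq_on_generator hg _ _).mpr ?_
    obtain ⟨i, hi⟩ := Subgroup.mem_zpowers_iff.mp (hg ((a : MulAut F) g))
    obtain ⟨j, hj⟩ := Subgroup.mem_zpowers_iff.mp (hg ((b : MulAut F) g))
    show (a : MulAut F) ((b : MulAut F) g) = (b : MulAut F) ((a : MulAut F) g)
    rw [← hi, ← hj, map_zpow, map_zpow, ← hi, ← hj, ← zpow_mul, ← zpow_mul, mul_comm]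
  haveI hQcn : Cfsg.IsCNGroup Q := quotient_cn hCN hR hR1 hfix
  let B : Subgroup Q :=
    { carrier := {c | (orderOf (ψ c)).Coprime p}
      one_mem' := by simp
      mul_mem' := fun {a b} ha hb => by
        show (orderOf (ψ (a * b))).Coprime p
        rw [map_mul]
        exact (ha.mul_left hb).coprime_dvd_left
          ((hcm ⟨ψ a, a, rfl⟩ ⟨ψ b, b, rfl⟩).orderOf_mul_dvd_mul_orderOf)
      inv_mem' := fun {a} ha => by
        show (orderOf (ψ a⁻¹)).Coprime p
        rw [map_inv, orderOf_inv]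
        exact ha }
  have hBcop : ∀ c ∈ B, (orderOf c).Coprime p := by
    intro c hc
    set o := orderOf (ψ c)
    have hmem : c ^ o ∈ F := by
      rw [← hψker, MonoidHom.mem_ker, map_pow, pow_orderOf_eq_one]
    have hdvd : orderOf c ∣ o * orderOf (c ^ o) :=
      orderOf_dvd_of_pow_eq_one (by rw [pow_mul, pow_orderOf_eq_one])
    exact ((show o.Coprime p from hc).mul_left (hFcop _ hmem)).coprime_dvd_left hdvd
  have hFB : F ≤ B := fun c hc => by
    show (orderOf (ψ c)).Coprime p
    rw [MonoidHom.mem_ker.mp (hψker.ge hc), orderOf_one]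
    exact Nat.coprime_one_left p
  have hBn : B.Normal := ⟨fun c hc g => by
    show (orderOf (ψ (g * c * g⁻¹))).Coprime p
    rw [map_mul, map_mul, map_inv, ← MulAut.conj_apply, MulEquiv.orderOf_eq]
    exact hc⟩
  have hF1 : F ≠ ⊥ := by
    intro h
    apply hQnn
    have htop : ∀ c : Q, c = 1 := fun c => Subgroup.mem_bot.mp (h ▸
      FittingCores.centralizer_fitting_le (G := Q) (by
        intro y hy
        rw [← hFdef, h, SetLike.mem_coe, Subgroup.mem_bot] at hy
        subst hy; simp))
    haveI : Subsingleton Q := ⟨fun a b => (htop a).trans (htop b).symm⟩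
    infer_instance
  have hBF : B ≤ F := by
    refine FittingCores.le_fitting hBn ?_
    haveI : Nontrivial B := (Subgroup.nontrivial_iff_ne_bot B).mpr
      fun h => hF1 (le_bot_iff.mp (h ▸ hFB))
    obtain ⟨⟨c, hcc⟩, hc1⟩ := Subgroup.ne_bot_iff_exists_ne_one.1
      (center_ne_bot_of_fpf (φ.comp B.subtype) fun a ha z hz =>
        hφfix a (hBcop a a.2) (fun e => ha (Subtype.ext e)) z hz)
    refine nilpotent_of_le (fun a ha => ?_) (hQcn (c : Q) fun e => hc1 (Subtype.ext (Subtype.ext e)))
    exact Subgroup.mem_centralizer_singleton_iff.mpr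
      (congrArg Subtype.val (Subgroup.mem_center_iff.mp hcc ⟨a, ha⟩))
  have hidx : ∃ n : ℕ, F.index = p ^ n := by
    rw [← hψker, Subgroup.index_ker]
    refine ⟨_, Nat.eq_prime_pow_of_unique_prime_dvd Nat.card_pos.ne' fun {d} hd hdd => ?_⟩
    by_contra hne
    haveI := Fact.mk hd
    obtain ⟨⟨e, c, rfl⟩, he⟩ := exists_prime_orderOf_dvd_card' (G := ψ.range) d hdd
    rw [← Subgroup.orderOf_coe] at he
    change orderOf (ψ c) = d at he
    have hcB : c ∈ B := by
      show (orderOf (ψ c)).Coprime p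
      rw [he]; exact (Nat.coprime_primes hd hp).mpr hne
    rw [MonoidHom.mem_ker.mp (hψker.ge (hBF hcB)), orderOf_one] at he
    exact hd.ne_one he.symm
  have hFtop : F ≠ ⊤ := fun h => hQnn (by
    haveI : Group.IsNilpotent (⊤ : Subgroup Q) := h ▸ (inferInstance : Group.IsNilpotent F)
    exact Group.nilpotent_of_mulEquiv Subgroup.topEquiv)
  -- lift `F`
  set M := F.comap π with hM
  have hRM : R ≤ M := fun r hr => by
    show π r ∈ F
    rw [show π r = 1 from (QuotientGroup.eq_one_iff r).mpr hr]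
    exact F.one_mem
  have hMF : M.map π = F := Subgroup.map_comap_eq_self_of_surjective (QuotientGroup.mk'_surjective R) F
  let f : M →* F := π.subgroupComap F
  have hfs : Function.Surjective f :=
    π.subgroupComap_surjective_of_surjective F (QuotientGroup.mk'_surjective R)
  have hfk : f.ker = R.subgroupOf M := by
    ext x
    rw [MonoidHom.mem_ker, Subgroup.mem_subgroupOf, Subtype.ext_iff]
    exact QuotientGroup.eq_one_iff (x : G)
  have hcardF : (R.subgroupOf M).index = Nat.card F := by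
    rw [← hfk, Subgroup.index_ker, MonoidHom.range_eq_top.mpr hfs,
      Nat.card_congr Subgroup.topEquiv.toEquiv]
  have hcardR : Nat.card (R.subgroupOf M) = Nat.card R :=
    Nat.card_congr (Subgroup.subgroupOfEquivOfLe hRM).toEquiv
  have hFpc : (Nat.card F).Coprime p := by
    rw [Nat.coprime_comm, hp.coprime_iff_not_dvd]
    intro hd
    obtain ⟨c, hc⟩ := exists_prime_orderOf_dvd_card' (G := F) p hd
    have := hFcop _ c.2
    rw [Subgroup.orderOf_coe, hc, Nat.coprime_self] at this
    exact hp.ne_one this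
  have hcop : (Nat.card (R.subgroupOf M)).Coprime (R.subgroupOf M).index := by
    obtain ⟨k, hk⟩ := IsPGroup.iff_card.mp hR
    rw [hcardR, hk, hcardF]
    exact hFpc.symm.pow_left k
  obtain ⟨A₀, hA₀⟩ := Subgroup.exists_right_complement'_of_coprime hcop
  set A := A₀.map M.subtype with hA
  have hAcard : Nat.card A = Nat.card F := by
    rw [Subgroup.card_map_of_injective M.subtype_injective, ← hA₀.symm.index_eq_card, hcardF]
  have hsup : R ⊔ A = M := by
    have : ((R.subgroupOf M) ⊔ A₀).map M.subtype = (⊤ : Subgroup M).map M.subtype := by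
      rw [hA₀.sup_eq_top]
    rwa [Subgroup.map_sup, Subgroup.map_subgroupOf_eq_of_le hRM, ← MonoidHom.range_eq_map,
      Subgroup.range_subtype] at this
  have hAcyc : IsCyclic A := by
    have hinj : Function.Injective (f.comp A₀.subtype) := by
      intro a b hab
      have hmem : (a⁻¹ * b : A₀).1 ∈ f.ker := by
        rw [MonoidHom.mem_ker]
        show f ((a : M)⁻¹ * (b : M)) = 1
        rw [map_mul, map_inv]
        rw [show f (a : M) = f (b : M) from hab, inv_mul_cancel]
      rw [hfk] at hmem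
      have := (Subgroup.disjoint_def.mp hA₀.disjoint) hmem (a⁻¹ * b).2
      exact inv_mul_eq_one.mp (Subtype.ext this)
    haveI : IsCyclic A₀ := isCyclic_of_injective (f.comp A₀.subtype) hinj
    exact isCyclic_of_surjective (A₀.equivMapOfInjective M.subtype M.subtype_injective)
      (A₀.equivMapOfInjective M.subtype M.subtype_injective).surjective
  have hMidx : M.index = F.index := Subgroup.index_comap_of_surjective F (QuotientGroup.mk'_surjective R)
  haveI hMn : M.Normal := ‹F.Normal›.comap π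
  refine ⟨p, hp, ?_⟩
  refine ⟨hR1, A, ?_, hAcyc, hAcard ▸ hFodd, hAcard ▸ hFpc, ?_, ?_, ?_, ?_, ?_⟩
  · intro h
    rw [h, Subgroup.card_bot] at hAcard
    exact hF1 (Subgroup.card_eq_one.mp hAcard.symm)
  · rw [hsup]; exact hMn
  · rw [hsup]
    intro h
    apply hFtop
    rw [← hMF, h, Subgroup.map_top_of_surjective _ (QuotientGroup.mk'_surjective R)]
  · rw [hsup, hMidx]; exact hidx
  · intro a ha ha1
    rw [eq_bot_iff]
    intro r hr
    rw [Subgroup.mem_bot]
    refine hfix a ha1 ?_ r hr.1 (Subgroup.mem_centralizer_singleton_iff.mp hr.2).symm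
    exact (hAcard ▸ hFpc).coprime_dvd_left (Subgroup.orderOf_dvd_natCard A ha)
  · intro x hx a ha ha1 hxa
    rw [hsup] at hx
    have hap : (orderOf a).Coprime p := (hAcard ▸ hFpc).coprime_dvd_left
      (Subgroup.orderOf_dvd_natCard A ha)
    have hax : a * x * a⁻¹ * x⁻¹ ∈ R := by
      have := R.inv_mem hxa
      simpa [mul_assoc] using this
    obtain ⟨s, hs, hcs⟩ := exists_lift hCN hR hR1 hap hax
    set y := s⁻¹ * x
    have hyM : y ∉ M := fun h => hx (by
      have := M.mul_mem (hRM hs) h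
      simpa [y] using this)
    obtain ⟨r, u, hr, huy, hu, k, hk⟩ : ∃ (r : ℕ) (u : G), r.Prime ∧ u ∈ Subgroup.zpowers y ∧
        u ∉ M ∧ ∃ k, orderOf u = r ^ k := by
      by_contra hcon
      exact hyM (mem_of_primePow M y fun r u hr hu huo => by_contra fun h =>
        hcon ⟨r, u, hr, hu, h, huo⟩)
    have hau : Commute a u := by
      obtain ⟨n, rfl⟩ := Subgroup.mem_zpowers_iff.mp huy
      exact hcs.zpow_right n
    have hrp : r = p := by
      by_contra hne
      apply hu
      show π u ∈ F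
      apply hBF
      show (orderOf (ψ (π u))).Coprime p
      refine (((Nat.coprime_primes hr hp).mpr hne).pow_left k).coprime_dvd_left ?_
      exact (orderOf_map_dvd ψ _).trans (hk ▸ orderOf_map_dvd π u)
    subst hrp
    obtain ⟨z, hz, hz1, huz⟩ := exists_fixed hR hR1 ⟨k, hk⟩
    obtain ⟨l, hl⟩ := IsPGroup.iff_orderOf.mp hR ⟨z, hz.1⟩
    rw [Subgroup.orderOf_mk] at hl
    exact hz1 (hfix a ha1 hap z hz.1 (commute_of_common hCN (show u ≠ 1 from fun e => hu (by rw [e]; exact M.one_mem))
      hau.symm huz (hl ▸ hap.pow_right l)))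

end Cfsg.Agent.CN
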