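import Cfsg.Agent.Lib.CN.Stable
import Cfsg.Agent.Lib.Transfer.Alperin
import Cfsg.Agent.Lib.Solvable.Fitting
import Cfsg.Agent.S0116

/-!
# A Sylow subgroup all of whose nontrivial elements have `p`-groups as centralisers is TI
-/

set_option autoImplicit false
set_option linter.style.haveILetI false
set_option linter.unusedSectionVars false

open scoped Pointwise

namespace Cfsg.Agent.CN

universe u

/-- The normaliser of `Z(J(P))` contains all `p`-local subgroups belonging to `P`. -/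
theorem normalizer_le {G : Type u} [Group G] [Finite G] {p : ℕ} [Fact p.Prime] (hp : p ≠ 2)
    (hloc : ∀ Q : Subgroup G, IsPGroup p Q → Q ≠ ⊥ →
      Subgroup.centralizer (Cfsg.pCore p ↥(Subgroup.normalizer (Q : Set G)) :
          Set ↥(Subgroup.normalizer (Q : Set G))) ≤ Cfsg.pCore p ↥(Subgroup.normalizer (Q : Set G)) ∧
        ZJ.IsQuad p ↥(Subgroup.normalizer (Q : Set G)))
    (P : Sylow p G) (Q : Subgroup G) (hQP : Q ≤ (P : Subgroup G)) (hQ1 : Q ≠ ⊥) :
    Subgroup.normalizer (Q : Set G) ≤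
      Subgroup.normalizer (ZJ.zJ p False (P : Subgroup G) : Set G) := by
  set M := Subgroup.normalizer (ZJ.zJ p False (P : Subgroup G) : Set G) with hM
  by_contra hbad
  obtain ⟨Q₀, ⟨hQ₀P, hQ₀1, hQ₀M⟩, hmax⟩ := Set.exists_max_image
    {Q : Subgroup G | Q ≤ (P : Subgroup G) ∧ Q ≠ ⊥ ∧ ¬ Subgroup.normalizer (Q : Set G) ≤ M}
    (fun Q => Nat.card ↥((P : Subgroup G) ⊓ Subgroup.normalizer (Q : Set G)))
    (Set.toFinite _) ⟨Q, hQP, hQ1, hbad⟩
  clear hbad hQP hQ1 Q
  rename' Q₀ => Q, hQ₀P => hQP, hQ₀1 => hQ1, hQ₀M => hbad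
  set N := Subgroup.normalizer (Q : Set G) with hN
  set R0 := (P : Subgroup G) ⊓ N with hR0
  have hgood : ∀ W : Subgroup G, W ≤ (P : Subgroup G) → W ≠ ⊥ →
      ∀ X : Subgroup G, R0 < X → X ≤ (P : Subgroup G) → X ≤ Subgroup.normalizer (W : Set G) →
      Subgroup.normalizer (W : Set G) ≤ M := by
    intro W hWP hW1 X hX hXP hXW
    by_contra hn
    exact absurd ((Nat.card_le_card_of_injective _
      (Subgroup.inclusion_injective (le_inf hXP hXW))).trans (hmax W ⟨hWP, hW1, hn⟩))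
      (not_le.2 (Set.ncard_lt_ncard (SetLike.coe_ssubset_coe.2 hX) (Set.toFinite _)))
  have hQp : IsPGroup p Q := P.isPGroup'.to_le hQP
  obtain ⟨hcon, hsta⟩ := hloc Q hQp hQ1
  have hQR0 : Q ≤ R0 := le_inf hQP Subgroup.le_normalizer
  have hR0p : IsPGroup p R0 := P.isPGroup'.to_inf_left
  obtain ⟨R, hR⟩ := (hR0p.comap_subtype (K := N)).exists_le_sylow
  have hR' : R0 ≤ (R : Subgroup N).map N.subtype := by
    rw [← Subgroup.map_subgroupOf_eq_of_le (show R0 ≤ N from inf_le_right)]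
    exact Subgroup.map_mono hR
  have hNZ : N ≤ Subgroup.normalizer
      (ZJ.zJ p False ((R : Subgroup N).map N.subtype) : Set G) :=
    ZJ.le_normalizer_zJ_of_stable hp N hsta hcon R False
  set R' := (R : Subgroup N).map N.subtype with hR'def
  have hR'p : IsPGroup p R' := R.isPGroup'.map _
  have hPM : (P : Subgroup G) ≤ M := ZJ.le_normalizer_zJ _
  rcases eq_or_lt_of_le (inf_le_left : R0 ≤ (P : Subgroup G)) with heq | hlt
  · have h1 : R' = (P : Subgroup G) := P.is_maximal' hR'p (heq ▸ hR')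
    rw [h1] at hNZ
    exact hbad hNZ
  have hgrow := Fusion.lt_inf_normalizer (Fusion.sylow_isNilpotent P) hlt
  have hR0M : Subgroup.normalizer (R0 : Set G) ≤ M :=
    hgood R0 inf_le_left (fun h => hQ1 (le_bot_iff.1 (hQR0.trans h.le))) _ hgrow inf_le_left
      inf_le_right
  have hRR0 : R' = R0 := by
    rcases eq_or_lt_of_le hR' with heq | hlt'
    · exact heq.symm
    exfalso
    have hgrow' := Fusion.lt_inf_normalizer hR'p.isNilpotent hlt'
    set R1 := R' ⊓ Subgroup.normalizer (R0 : Set G) with hR1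
    have hR1M : R1 ≤ M := inf_le_right.trans hR0M
    have hR1p : IsPGroup p R1 := hR'p.to_inf_left
    obtain ⟨T, hT⟩ := (hR1p.comap_subtype (K := M)).exists_le_sylow
    obtain ⟨m, hm⟩ := MulAction.exists_smul_eq M T (P.subtype hPM)
    set c := (MulAut.conj (m : G)).toMonoidHom with hc
    have hcR1 : R1.map c ≤ (P : Subgroup G) := by
      rintro _ ⟨x, hx, rfl⟩
      have hxT : (⟨x, hR1M hx⟩ : M) ∈ (T : Subgroup M) :=
        hT (show (⟨x, hR1M hx⟩ : M) ∈ R1.subgroupOf M from hx)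
      have h2 : m * ⟨x, hR1M hx⟩ * m⁻¹ ∈ ((P.subtype hPM : Sylow p M) : Subgroup M) := by
        rw [← hm, Sylow.coe_subgroup_smul, Subgroup.mem_pointwise_smul_iff_inv_smul_mem, ← map_inv,
          MulAut.smul_def, MulAut.conj_apply]
        simpa [mul_assoc] using hxT
      exact h2
    have hQR1 : Q.map c ≤ R1.map c :=
      Subgroup.map_mono (hQR0.trans (le_inf hR' Subgroup.le_normalizer))
    have hQc : Q.map c ≠ ⊥ := by
      rwa [Ne, Subgroup.map_eq_bot_iff_of_injective _ (MulAut.conj (m : G)).injective]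
    have hcard : Nat.card R0 < Nat.card (R1.map c) := by
      rw [Subgroup.card_map_of_injective (f := c) (MulAut.conj (m : G)).injective]
      exact Set.ncard_lt_ncard (SetLike.coe_ssubset_coe.2 hgrow') (Set.toFinite _)
    have hNc : N.map c = Subgroup.normalizer (Q.map c : Set G) :=
      Subgroup.map_equiv_normalizer_eq Q (MulAut.conj (m : G))
    have h3 : Subgroup.normalizer (Q.map c : Set G) ≤ M := by
      by_contra hn
      have h4 := hmax (Q.map c) ⟨hQR1.trans hcR1, hQc, hn⟩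
      have h5 : R1.map c ≤ (P : Subgroup G) ⊓ Subgroup.normalizer (Q.map c : Set G) :=
        le_inf hcR1 (hNc ▸ Subgroup.map_mono (inf_le_left.trans (Subgroup.map_subtype_le _)))
      exact absurd ((Nat.card_le_card_of_injective _ (Subgroup.inclusion_injective h5)).trans h4)
        (not_le.2 hcard)
    refine hbad fun x hx => ?_
    have h4 : (m : G) * x * (m : G)⁻¹ ∈ M := h3 (hNc ▸ ⟨x, hx, rfl⟩)
    have h5 := M.mul_mem (M.mul_mem (M.inv_mem m.2) h4) m.2
    simpa [mul_assoc] using h5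
  rw [hRR0] at hNZ
  refine hbad (hNZ.trans (hgood _ ((ZJ.zJ_le R0).trans inf_le_left) ?_ _ hgrow inf_le_left ?_))
  · intro h
    exact ZJ.zCore_ne_bot (e := False) hR0p (fun h' => hQ1 (le_bot_iff.1 (hQR0.trans h'.le)))
      (le_bot_iff.1 (h ▸ ZJ.zCore_le_zJ R0))
  · exact inf_le_right.trans (ZJ.normalizer_le_normalizer_zJ R0)

theorem normalizer_ne_top {G : Type u} [Group G] [IsSimpleGroup G] {Q : Subgroup G} (h1 : Q ≠ ⊥)
    (h2 : Q ≠ ⊤) : Subgroup.normalizer (Q : Set G) ≠ ⊤ := fun h =>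
  (Subgroup.Normal.eq_bot_or_eq_top (Subgroup.normalizer_eq_top_iff.mp h)).elim h1 h2

/-- The TI property. -/
theorem sylow_ti {G : Type u} [Group G] [Finite G] [IsSimpleGroup G] (hodd : Odd (Nat.card G))
    (hns : ¬ Group.IsSolvable G) (hsol : ∀ K : Subgroup G, K ≠ ⊤ → Group.IsSolvable K) {p : ℕ}
    [Fact p.Prime] (hpG : p ∣ Nat.card G) (hfree : PFree p G) (P : Sylow p G) {g x : G}
    (hx : x ∈ P) (hx1 : x ≠ 1) (hgx : g⁻¹ * x * g ∈ P) :
    g ∈ Subgroup.normalizer ((P : Subgroup G) : Set G) := by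
  have hp : p ≠ 2 := fun h => Nat.not_even_iff_odd.mpr hodd (even_iff_two_dvd.mpr (h ▸ hpG))
  have hnotp : ¬ IsPGroup p G := fun h => hns (by
    haveI := h.isNilpotent; infer_instance)
  have hsolN : ∀ Q : Subgroup G, IsPGroup p Q → Q ≠ ⊥ →
      Group.IsSolvable ↥(Subgroup.normalizer (Q : Set G)) := fun Q hQ hQ1 =>
    hsol _ (normalizer_ne_top hQ1 fun h => hnotp (by
      intro y
      obtain ⟨k, hk⟩ := hQ ⟨y, h ▸ Subgroup.mem_top y⟩
      exact ⟨k, by simpa using congrArg Subtype.val hk⟩))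
  have hfreeN : ∀ K : Subgroup G, PFree p K := fun K y v hy hyc hv hyv => by
    obtain ⟨k, hk⟩ := hv
    exact Subtype.ext (hfree (y : G) v (fun e => hy (Subtype.ext e))
      (by rwa [Subgroup.orderOf_coe]) ⟨k, by rw [Subgroup.orderOf_coe]; exact hk⟩
      (hyv.map K.subtype))
  have hoddN : ∀ K : Subgroup G, Odd (Nat.card K) := fun K =>
    hodd.of_dvd_nat (Subgroup.card_subgroup_dvd_card K)
  have hcoreN : ∀ Q : Subgroup G, IsPGroup p Q → Q ≠ ⊥ →
      Cfsg.pCore p ↥(Subgroup.normalizer (Q : Set G)) ≠ ⊥ := by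
    intro Q hQ hQ1 h
    apply hQ1
    have hle : Q.subgroupOf (Subgroup.normalizer (Q : Set G)) ≤
        Cfsg.pCore p ↥(Subgroup.normalizer (Q : Set G)) :=
      PBasic.le_pCore Subgroup.normal_in_normalizer (hQ.comap_subtype)
    rw [h, le_bot_iff, Subgroup.subgroupOf_eq_bot] at hle
    exact disjoint_self.mp (hle.mono_right Subgroup.le_normalizer)
  have hloc : ∀ Q : Subgroup G, IsPGroup p Q → Q ≠ ⊥ →
      Subgroup.centralizer (Cfsg.pCore p ↥(Subgroup.normalizer (Q : Set G)) :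
          Set ↥(Subgroup.normalizer (Q : Set G))) ≤ Cfsg.pCore p ↥(Subgroup.normalizer (Q : Set G)) ∧
        ZJ.IsQuad p ↥(Subgroup.normalizer (Q : Set G)) := fun Q hQ hQ1 => by
    haveI := hsolN Q hQ hQ1
    exact ⟨FittingCores.centralizer_pCore_le Fact.out
        (pPrimeCore_eq_bot (hfreeN _) (hcoreN Q hQ hQ1)),
      isQuad (hfreeN _) (hcoreN Q hQ hQ1) (hoddN _)⟩
  set W := ZJ.zJ p False (P : Subgroup G) with hW
  set M := Subgroup.normalizer (W : Set G) with hM
  have hstrong : ∀ (y u : G), y ∈ P → y ≠ 1 → u⁻¹ * y * u ∈ P → u ∈ M := by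
    intro y u hy hy1 huy
    obtain ⟨n, Q, z, hprod, hz, h0, hstep⟩ := Cfsg.Agent.S0116.result P {y} u
      (Set.singleton_subset_iff.mpr hy) (by
        rintro _ ⟨a, ha, rfl⟩
        rw [Set.mem_singleton_iff] at ha
        subst ha; exact huy)
    rw [← hprod]
    refine Subgroup.list_prod_mem M fun w hw => ?_
    obtain ⟨i, rfl⟩ := List.mem_ofFn.mp hw
    refine normalizer_le hp hloc P _ inf_le_left ?_ (hz i).1
    intro hbot
    obtain ⟨iv, hiv⟩ := i
    rcases Nat.eq_zero_or_pos iv with h | h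
    · subst h
      have := h0 hiv (Set.mem_singleton y)
      rw [SetLike.mem_coe, hbot, Subgroup.mem_bot] at this
      exact hy1 this
    · obtain ⟨j, rfl⟩ : ∃ j, iv = j + 1 := ⟨iv - 1, by omega⟩
      have := hstep ⟨j, by omega⟩ hiv ⟨y, Set.mem_singleton y, rfl⟩
      rw [SetLike.mem_coe, hbot, Subgroup.mem_bot] at this
      apply hy1
      exact (conj_eq_one_iff (a := ((List.ofFn z).take (j + 1)).prod⁻¹)).mp (by simpa using this)
  have hPM : (P : Subgroup G) ≤ M := ZJ.le_normalizer_zJ _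
  have hP1 : (P : Subgroup G) ≠ ⊥ := P.ne_bot_of_dvd_card hpG
  have hWp : IsPGroup p W := P.isPGroup'.to_le (ZJ.zJ_le _)
  have hW1 : W ≠ ⊥ := fun h =>
    ZJ.zCore_ne_bot (e := False) P.isPGroup' hP1 (le_bot_iff.1 (h ▸ ZJ.zCore_le_zJ _))
  haveI := hsolN W hWp hW1
  -- transfer
  have hres : Cfsg.pResidual p G = ⊤ := by
    haveI := PBasic.pResidual_characteristic p G
    refine ((Subgroup.Normal.eq_bot_or_eq_top
      (inferInstance : (Cfsg.pResidual p G).Normal)).resolve_left ?_)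
    intro h
    exact hnotp (by
      intro y
      obtain ⟨k, hk⟩ := PBasic.quotient_pResidual_isPGroup p G (y : G ⧸ Cfsg.pResidual p G)
      refine ⟨k, ?_⟩
      rw [← QuotientGroup.mk_pow, QuotientGroup.eq_one_iff, h, Subgroup.mem_bot] at hk
      exact hk)
  have hresM : Cfsg.pResidual p M = ⊤ := by
    have h := Fusion.inf_pResidual_eq_of_controlsFusion P M hPM fun y hy u hu => by
      by_cases hy1 : y = 1
      · exact ⟨1, M.one_mem, by simp [hy1]⟩
      · refine ⟨u, ?_, rfl⟩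
        rw [← inv_mem_iff]
        exact hstrong y u⁻¹ hy hy1 (by simpa using hu)
    rw [hres, inf_top_eq] at h
    have hle : ((P.subtype hPM : Sylow p M) : Subgroup M) ≤ Cfsg.pResidual p M := by
      intro y hy
      have hy' : (y : G) ∈ (P : Subgroup G) := hy
      rw [h] at hy'
      obtain ⟨w, hw, e⟩ := hy'.2
      rwa [← Subtype.ext (p := (· ∈ M)) e]
    rw [← PBasic.sylow_sup_pResidual (P.subtype hPM)]
    exact (sup_eq_right.mpr hle).symm
  have hnd := not_dvd_of_pResidual (hfreeN M) (hcoreN W hWp hW1) (hoddN M) hresM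
  set R := Cfsg.pCore p M
  haveI : R.Normal := Cfsg.pCore_normal p M
  have hPR : ((P.subtype hPM : Sylow p M) : Subgroup M) ≤ R := by
    intro y hy
    obtain ⟨k, hk⟩ := exists_pow_of_isPGroup (P.subtype hPM).isPGroup' hy
    rw [← QuotientGroup.eq_one_iff, ← orderOf_eq_one_iff]
    refine Nat.eq_one_of_dvd_coprimes (((Fact.out : p.Prime).coprime_iff_not_dvd.mpr hnd).pow_left k)
      ?_ (orderOf_dvd_natCard _)
    exact hk ▸ orderOf_map_dvd (QuotientGroup.mk' R) y
  have hMN : M ≤ Subgroup.normalizer ((P : Subgroup G) : Set G) := by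
    have hR : R = ((P.subtype hPM : Sylow p M) : Subgroup M) :=
      (P.subtype hPM).is_maximal' (PBasic.pCore_isPGroup p M) hPR
    haveI hn : ((P : Subgroup G).subgroupOf M).Normal := by
      have : ((P.subtype hPM : Sylow p M) : Subgroup M) = (P : Subgroup G).subgroupOf M := rfl
      rw [← this, ← hR]; infer_instance
    exact (Subgroup.normal_subgroupOf_iff_le_normalizer hPM).mp hn
  exact hMN (hstrong x g hx hx1 hgx)

end Cfsg.Agent.CN
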